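import Cfsg.Agent.Lib.Solv.ClassFortyNine.Refine
import Cfsg.Agent.Lib.Solv.Cores
import Mathlib.GroupTheory.PGroup

/-!
The class number bound for soluble groups of order divisible by the square of a prime.
-/

set_option autoImplicit false
set_option linter.unusedSectionVars false
set_option linter.style.haveILetI false

namespace Cfsg.Agent.Solv.C49

open scoped IsMulCommutative
open Cfsg.Agent.Solv.OddPair (kerV mem_kerV quotAct quot_faithful)

universe u

variable {G : Type u} [Group G] [Finite G]

/-- The prime core contains its centraliser when every normal subgroup meets it. -/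
theorem pCore_self_centralizing (hs : Group.IsSolvable G) {p : ℕ} [hp : Fact p.Prime]
    (hdvd : ∀ K : Subgroup G, K.Normal → K ≠ ⊥ → p ∣ Nat.card K) :
    Subgroup.centralizer (Cfsg.pCore p G : Set G) ≤ Cfsg.pCore p G := by
  have hF : Cfsg.fittingSubgroup G = Cfsg.pCore p G := by
    rw [Solv.fitting_eq_iSup_pCore]
    refine le_antisymm (iSup_le fun q => ?_)
      (le_iSup (fun q : Nat.Primes => Cfsg.pCore (q : ℕ) G) ⟨p, hp.out⟩)
    by_cases hq : (q : ℕ) = p
    · rw [hq]
    · haveI := Fact.mk q.2
      by_cases hb : Cfsg.pCore (q : ℕ) G = ⊥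
      · rw [hb]; exact bot_le
      · exfalso
        obtain ⟨k, hk⟩ := (Solv.pCore_isPGroup (G := G) (q : ℕ)).exists_card_eq
        have h2 := hdvd _ (Solv.pCore_normal _) hb
        rw [hk] at h2
        exact hq ((Nat.prime_dvd_prime_iff_eq hp.out q.2).1 (hp.out.dvd_of_dvd_pow h2)).symm
  exact hF ▸ Solv.centralizer_fitting_le hs

/-- Conjugation on a normal abelian subgroup, written additively. -/
@[reducible] def conjAct (N : Subgroup G) [N.Normal] [IsMulCommutative N] :
    DistribMulAction G (Additive N) where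
  smul g x := Additive.ofMul (MulAut.conjNormal g (Additive.toMul x))
  one_smul x := congrArg Additive.ofMul (by rw [map_one]; rfl)
  mul_smul g h x := congrArg Additive.ofMul (by rw [map_mul]; rfl)
  smul_zero g := congrArg Additive.ofMul (map_one (MulAut.conjNormal g : N ≃* N))
  smul_add g x y := congrArg Additive.ofMul
    (map_mul (MulAut.conjNormal g : N ≃* N) (Additive.toMul x) (Additive.toMul y))

theorem coe_conjAct (N : Subgroup G) [N.Normal] [IsMulCommutative N] (g : G) (x : Additive N) :
    letI := conjAct N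
    ((Additive.toMul (g • x) : N) : G) = g * ((Additive.toMul x : N) : G) * g⁻¹ :=
  MulAut.conjNormal_apply g (Additive.toMul x)

theorem kerV_conjAct (N : Subgroup G) [N.Normal] [IsMulCommutative N] :
    letI := conjAct N
    kerV G (Additive N) = Subgroup.centralizer (N : Set G) := by
  letI := conjAct N
  ext g
  rw [mem_kerV, Subgroup.mem_centralizer_iff]
  constructor
  · intro h x hx
    have h1 : g * x * g⁻¹ = x := by
      have := congrArg (fun y : Additive N => ((Additive.toMul y : N) : G)) (h (Additive.ofMul ⟨x, hx⟩))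
      simpa only [coe_conjAct, toMul_ofMul] using this
    exact (mul_inv_eq_iff_eq_mul.1 h1).symm
  · intro h x
    refine congrArg Additive.ofMul (Subtype.ext ?_ : MulAut.conjNormal g (Additive.toMul x) = Additive.toMul x)
    rw [MulAut.conjNormal_apply, ← h _ (Additive.toMul x : N).2, mul_inv_cancel_right]

/-- Classes of the whole group against those of the acting group and its orbits. -/
theorem classes_action (N : Subgroup G) [N.Normal] [IsMulCommutative N] :
    letI := conjAct N
    letI := quotAct (A := G) (V := Additive N)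
    clN (G ⧸ kerV G (Additive N)) + (orbN (G ⧸ kerV G (Additive N)) (Additive N) - 1) ≤
      Nat.card (ConjClasses G) := by
  letI := conjAct N
  letI := quotAct (A := G) (V := Additive N)
  have h1 := classes_quot_add N
  have h2 : orbN (G ⧸ kerV G (Additive N)) (Additive N) ≤ Nat.card (clsIn N) :=
    orbits_le_clsIn N (fun x : Additive N => ((Additive.toMul x : N) : G))
      (fun x y h => Additive.toMul.injective (Subtype.ext h)) (fun x => (Additive.toMul x : N).2)
      (QuotientGroup.mk' (kerV G (Additive N))) fun g x => coe_conjAct N g x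
  have h3 : clN (G ⧸ kerV G (Additive N)) ≤ Nat.card (ConjClasses (G ⧸ N)) := by
    refine Nat.card_le_card_of_surjective _ (ConjClasses.map_surjective
      (f := QuotientGroup.map N (kerV G (Additive N)) (MonoidHom.id G) ?_) ?_)
    · rw [kerV_conjAct]
      intro x hx
      exact Subgroup.mem_centralizer_iff.2 fun y hy =>
        congrArg Subtype.val (mul_comm (⟨y, hy⟩ : N) ⟨x, hx⟩)
    · intro q
      obtain ⟨g, rfl⟩ := QuotientGroup.mk_surjective q
      exact ⟨(g : G ⧸ N), rfl⟩
  have h4 : 0 < orbN (G ⧸ kerV G (Additive N)) (Additive N) := by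
    haveI : Nonempty (MulAction.orbitRel.Quotient (G ⧸ kerV G (Additive N)) (Additive N)) :=
      ⟨Quotient.mk'' 0⟩
    haveI : Finite (MulAction.orbitRel.Quotient (G ⧸ kerV G (Additive N)) (Additive N)) := Quotient.finite _
    exact Nat.card_pos
  omega

/-- A coprime group on a group of order the square of a prime with an invariant subgroup of
prime order is abelian. -/
theorem commute_of_flag {A V : Type u} [Group A] [Finite A] [AddCommGroup V] [Finite V]
    [DistribMulAction A V] {p : ℕ} [hp : Fact p.Prime]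
    (hf : ∀ a : A, (∀ x : V, a • x = x) → a = 1) (hA : ¬p ∣ Nat.card A)
    (hV : Nat.card V = p * p) (U : AddSubgroup V) (hU : Nat.card U = p)
    (hinv : ∀ a : A, ∀ x ∈ U, a • x ∈ U) (a b : A) : Commute a b := by
  classical
  have hzs : ∀ (g : A) (j : ℤ) (x : V), g • j • x = j • g • x := fun g j x =>
    map_zsmul (DistribSMul.toAddMonoidHom V g) j x
  obtain ⟨u, hu, hu0⟩ : ∃ u ∈ U, u ≠ 0 := by
    by_contra h
    push Not at h
    rw [(AddSubgroup.eq_bot_iff_forall U).2 h, AddSubgroup.card_bot] at hU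
    exact hp.out.ne_one hU.symm
  have hgenU : ∀ y ∈ U, ∃ j : ℤ, j • u = y := by
    intro y hy
    have h := zmultiples_eq_top_of_prime_card (G := U) hU (g := (⟨u, hu⟩ : U))
      (fun e => hu0 (congrArg Subtype.val e))
    obtain ⟨j, hj⟩ := AddSubgroup.mem_zmultiples_iff.1 (h ▸ AddSubgroup.mem_top (⟨y, hy⟩ : U))
    exact ⟨j, congrArg Subtype.val hj⟩
  have hq : Nat.card (V ⧸ U) = p := by
    have h := AddSubgroup.card_eq_card_quotient_mul_card_addSubgroup U
    rw [hV, hU] at h
    exact (Nat.eq_of_mul_eq_mul_right hp.out.pos h).symm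
  obtain ⟨x, hx⟩ : ∃ x : V, x ∉ U := by
    by_contra h
    push Not at h
    have h' : U = ⊤ := (AddSubgroup.eq_top_iff' U).2 h
    rw [h', AddSubgroup.card_top, hV] at hU
    have := hp.out.two_le
    nlinarith
  have hgenV : ∀ v : V, ∃ j : ℤ, v - j • x ∈ U := by
    intro v
    have h := zmultiples_eq_top_of_prime_card (G := V ⧸ U) hq (g := (x : V ⧸ U))
      (fun e => hx ((QuotientAddGroup.eq_zero_iff x).1 e))
    obtain ⟨j, hj⟩ := AddSubgroup.mem_zmultiples_iff.1 (h ▸ AddSubgroup.mem_top (v : V ⧸ U))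
    refine ⟨j, (QuotientAddGroup.eq_zero_iff _).1 ?_⟩
    rw [QuotientAddGroup.mk_sub, QuotientAddGroup.mk_zsmul, hj, sub_self]
  have hcomU : ∀ y ∈ U, a • b • y = b • a • y := by
    intro y hy
    obtain ⟨j, rfl⟩ := hgenU y hy
    obtain ⟨i, hi⟩ := hgenU _ (hinv a u hu)
    obtain ⟨k, hk⟩ := hgenU _ (hinv b u hu)
    simp only [hzs]
    rw [← hk, ← hi, hzs, hzs, ← hi, ← hk, smul_comm i k]
  have hcomV : ∀ v : V, a • b • v - b • a • v ∈ U := by
    intro v
    obtain ⟨i, hi⟩ := hgenV (a • x)
    obtain ⟨k, hk⟩ := hgenV (b • x)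
    obtain ⟨j, hj⟩ := hgenV v
    have e1 : a • b • x - (k * i) • x ∈ U := by
      have := U.add_mem (hinv a _ hk) (U.zsmul_mem hi k)
      rwa [smul_sub, hzs, smul_sub, sub_add_sub_cancel, ← mul_smul k i x] at this
    have e2 : b • a • x - (k * i) • x ∈ U := by
      have := U.add_mem (hinv b _ hi) (U.zsmul_mem hk i)
      rwa [smul_sub, hzs, smul_sub, sub_add_sub_cancel, ← mul_smul i k x, mul_comm i k] at this
    have e3 := hcomU _ hj
    have e4 : a • b • v - b • a • v = j • (a • b • x - b • a • x) := by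
      rw [smul_sub, smul_sub, smul_sub, smul_sub, hzs, hzs, hzs, hzs] at e3
      rw [smul_sub, sub_eq_sub_iff_sub_eq_sub]
      exact e3
    rw [e4]
    refine U.zsmul_mem ?_ j
    simpa using U.sub_mem e1 e2
  obtain ⟨g, hg⟩ : ∃ g, g = (b * a)⁻¹ * (a * b) := ⟨_, rfl⟩
  suffices hg1 : g = 1 by
    rw [hg, inv_mul_eq_one] at hg1
    exact hg1.symm
  have hgU : ∀ y ∈ U, g • y = y := fun y hy => by
    rw [hg, mul_smul, inv_smul_eq_iff, mul_smul, mul_smul, hcomU y hy]
  have hgd : ∀ v : V, g • v - v ∈ U := fun v => by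
    have h := hinv (b * a)⁻¹ _ (hcomV v)
    rwa [smul_sub, ← mul_smul a, ← mul_smul b, ← mul_smul _ (a * b), ← mul_smul _ (b * a), inv_mul_cancel,
      one_smul, ← hg] at h
  have hpow : ∀ (m : ℕ) (v : V), g ^ m • v = v + m • (g • v - v) := by
    intro m
    induction m with
    | zero => intro v; rw [pow_zero, one_smul, zero_smul, add_zero]
    | succ m ih =>
      intro v
      rw [pow_succ', mul_smul, ih, smul_add,
        show g • (m • (g • v - v)) = m • (g • v - v) from hgU _ (U.nsmul_mem (hgd v) m), succ_nsmul]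
      abel
  have hgp : g ^ p = 1 := hf _ fun v => by
    have h0 : p • (⟨g • v - v, hgd v⟩ : U) = 0 := hU ▸ card_nsmul_eq_zero'
    have h1 : p • (g • v - v) = 0 := congrArg Subtype.val h0
    rw [hpow, h1, add_zero]
  rcases (Nat.dvd_prime hp.out).1 (orderOf_dvd_of_pow_eq_one hgp) with h | h
  · exact orderOf_eq_one_iff.1 h
  · exact absurd (h ▸ orderOf_dvd_natCard g) hA

theorem subgroup_of_card_prime_sq {p : ℕ} [Fact p.Prime] (P : Subgroup G) (h : Nat.card P = p ^ 2) :
    IsMulCommutative P :=
  ⟨⟨(IsPGroup.commGroupOfCardEqPrimeSq h).mul_comm⟩⟩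

/-- The case of a minimal normal subgroup of prime order. -/
theorem bound_prime_order (hsol : Group.IsSolvable G) {p : ℕ} [hp : Fact p.Prime]
    (hp2 : p ^ 2 ∣ Nat.card G) (N : Subgroup G) [N.Normal] (hN : Nat.card N = p)
    (hq : ¬p ^ 2 ∣ Nat.card (G ⧸ N))
    (hdvd : ∀ K : Subgroup G, K.Normal → K ≠ ⊥ → p ∣ Nat.card K) :
    49 * p ≤ 60 * Nat.card (ConjClasses G) := by
  haveI : (Cfsg.pCore p G).Normal := Solv.pCore_normal p
  obtain ⟨P, hP⟩ : ∃ P, P = Cfsg.pCore p G := ⟨_, rfl⟩
  haveI : P.Normal := hP ▸ inferInstance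
  have hC : Subgroup.centralizer (P : Set G) ≤ P := hP ▸ pCore_self_centralizing hsol hdvd
  have hG : Nat.card G = Nat.card (G ⧸ N) * p := by
    rw [← hN]; exact Subgroup.card_eq_card_quotient_mul_card_subgroup N
  obtain ⟨j, hj⟩ := (hP ▸ Solv.pCore_isPGroup p : IsPGroup p P).exists_card_eq
  have hNP : N ≤ P := hP ▸ Solv.normal_le_pCore (IsPGroup.of_card (n := 1) (by rw [hN, pow_one]))
  have hp3 : ¬p ^ 3 ∣ Nat.card G := fun h => hq (Nat.dvd_of_mul_dvd_mul_right hp.out.pos
    (by rw [← hG, ← pow_succ]; exact h))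
  have hj2 : j ≤ 2 := by
    by_contra h
    exact hp3 ((pow_dvd_pow p (show 3 ≤ j by omega)).trans (hj ▸ Subgroup.card_subgroup_dvd_card P))
  have hj1 : j ≠ 0 := fun h => by
    have h1 := Subgroup.card_dvd_of_le hNP
    rw [hj, h, pow_zero, hN] at h1
    exact hp.out.ne_one (Nat.dvd_one.1 h1)
  have hj1' : j ≠ 1 := by
    intro h
    have hPN : N = P := Subgroup.eq_of_le_of_card_ge hNP (by rw [hj, h, hN, pow_one])
    obtain ⟨S, hS⟩ := Sylow.exists_subgroup_card_pow_prime (G := G) p hp2
    obtain ⟨S', hS'⟩ := (IsPGroup.of_card (p := p) hS).exists_le_sylow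
    have hS'c : Nat.card (S' : Subgroup G) = p ^ 2 := by
      obtain ⟨i, hi⟩ := S'.2.exists_card_eq
      have h1 := Subgroup.card_dvd_of_le hS'
      have h2 : p ^ i ∣ Nat.card G := hi ▸ Subgroup.card_subgroup_dvd_card _
      rw [hS, hi] at h1
      have h3 := (Nat.pow_dvd_pow_iff_le_right hp.out.one_lt).1 h1
      have h4 : i ≤ 2 := by
        by_contra h
        exact hp3 ((pow_dvd_pow p (show 3 ≤ i by omega)).trans h2)
      rw [hi, show i = 2 by omega]
    haveI := subgroup_of_card_prime_sq (S' : Subgroup G) hS'c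
    have hNS : N ≤ (S' : Subgroup G) := by
      have h1 := S'.3 (IsPGroup.to_sup_of_normal_left (IsPGroup.of_card (p := p) (n := 1) (by rw [hN, pow_one])) S'.2)
        le_sup_right
      exact le_sup_left.trans h1.le
    have hle : (S' : Subgroup G) ≤ P := fun x hx => hC (Subgroup.mem_centralizer_iff.2 fun y hy => by
      rw [← hPN] at hy
      exact congrArg Subtype.val (mul_comm (⟨y, hNS hy⟩ : (S' : Subgroup G)) ⟨x, hx⟩))
    have h5 := Subgroup.card_le_of_le hle
    rw [hS'c, hj, h, pow_one, pow_two] at h5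
    have := hp.out.two_le
    nlinarith
  obtain rfl : j = 2 := by omega
  haveI := subgroup_of_card_prime_sq P hj
  letI := conjAct P
  letI := quotAct (A := G) (V := Additive P)
  have hker : kerV G (Additive P) = P := by
    rw [kerV_conjAct]
    refine le_antisymm hC fun x hx => Subgroup.mem_centralizer_iff.2 fun y hy =>
      congrArg Subtype.val (mul_comm (⟨y, hy⟩ : P) ⟨x, hx⟩)
  have hA : ¬p ∣ Nat.card (G ⧸ kerV G (Additive P)) := by
    rw [← Subgroup.index_eq_card, hker]
    intro h
    refine hp3 ?_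
    rw [← P.card_mul_index, hj, pow_succ]
    exact Nat.mul_dvd_mul_left _ h
  have hV : Nat.card (Additive P) = p * p := by
    rw [← pow_two, ← hj]; rfl
  let U : AddSubgroup (Additive P) := Subgroup.toAddSubgroup (N.subgroupOf P)
  have hU : Nat.card U = p := by
    rw [← hN]
    exact Nat.card_congr ((Subgroup.subgroupOfEquivOfLe hNP).toEquiv)
  have hinv : ∀ a : G ⧸ kerV G (Additive P), ∀ x ∈ U, a • x ∈ U := by
    intro a x hx
    obtain ⟨g, rfl⟩ := QuotientGroup.mk_surjective a
    show ((Additive.toMul (g • x) : P) : G) ∈ N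
    rw [coe_conjAct]
    exact ‹N.Normal›.conj_mem _ hx g
  have hcomm := commute_of_flag (p := p) quot_faithful hA hV U hU hinv
  have h := (rs_semilinear (A := G ⧸ kerV G (Additive P)) (V := Additive P) (p := p) (i := 1) ⊤
    (fun a _ b _ => hcomm a b) (le_of_eq Subgroup.index_top) (by
      rw [hV]
      have : 2 * 2 ≤ p * p := Nat.mul_le_mul hp.out.two_le hp.out.two_le
      rw [pow_two p]
      omega)).1
  exact h.trans (Nat.mul_le_mul_left _ (classes_action P))

/-- The bound. -/
theorem main (p : ℕ) [hp : Fact p.Prime] : ∀ (m : ℕ) (G : Type u) [Group G] [Finite G],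
    Nat.card G = m → Group.IsSolvable G → p ^ 2 ∣ Nat.card G →
      49 * p ≤ 60 * Nat.card (ConjClasses G) := by
  intro m
  induction m using Nat.strong_induction_on with
  | _ m ih =>
    intro G _ _ hm hsol hp2
    haveI := hsol
    haveI : Nontrivial G := Finite.one_lt_card_iff_nontrivial.1 (lt_of_lt_of_le
      (Nat.one_lt_pow (by norm_num) hp.out.one_lt) (Nat.le_of_dvd Nat.card_pos hp2))
    by_cases hquot : ∃ K : Subgroup G, K.Normal ∧ K ≠ ⊥ ∧ p ^ 2 ∣ Nat.card (G ⧸ K)
    · obtain ⟨K, hK, hK0, hKp⟩ := hquot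
      haveI := hK
      have hlt : Nat.card (G ⧸ K) < m := by
        have h1 : 1 < Nat.card K := (Subgroup.one_lt_card_iff_ne_bot K).2 hK0
        rw [← hm, Subgroup.card_eq_card_quotient_mul_card_subgroup K]
        exact lt_mul_of_one_lt_right Nat.card_pos h1
      exact (ih _ hlt (G ⧸ K) rfl
        (Group.isSolvable_of_surjective (f := QuotientGroup.mk' K) (QuotientGroup.mk'_surjective K)) hKp).trans
        (Nat.mul_le_mul_left _ (Nat.card_le_card_of_surjective _
          (ConjClasses.map_surjective (f := QuotientGroup.mk' K) (QuotientGroup.mk'_surjective K))))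
    push Not at hquot
    have hdvd : ∀ K : Subgroup G, K.Normal → K ≠ ⊥ → p ∣ Nat.card K := by
      intro K hK hK0
      by_contra hc
      haveI := hK
      refine hquot K hK hK0 ?_
      rw [Subgroup.card_eq_card_quotient_mul_card_subgroup K] at hp2
      exact (Nat.Coprime.pow_left 2 (hp.out.coprime_iff_not_dvd.2 hc)).dvd_of_dvd_mul_right hp2
    obtain ⟨N, hN, hN0, hmin⟩ := Solv.exists_minimal_normal (G := G)
    haveI := hN
    obtain ⟨hNab, q, hq, -, hqg⟩ := Solv.minimal_normal_elementaryAbelian N inferInstance hN0 hmin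
    haveI := Fact.mk hq
    obtain ⟨n, hn⟩ := hqg.exists_card_eq
    obtain rfl : q = p := by
      have h1 := hdvd N hN hN0
      rw [hn] at h1
      exact ((Nat.prime_dvd_prime_iff_eq hp.out hq).1 (hp.out.dvd_of_dvd_pow h1)).symm
    have hn0 : n ≠ 0 := fun h => hN0 (Subgroup.eq_bot_of_card_le _ (by rw [hn, h]; rfl))
    by_cases hn1 : n = 1
    · exact bound_prime_order hsol hp2 N (by rw [hn, hn1, pow_one]) (hquot N hN hN0) hdvd
    haveI := hNab
    letI := conjAct N
    letI := quotAct (A := G) (V := Additive N)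
    have hirr : Irred (G ⧸ kerV G (Additive N)) (Additive N) := by
      intro U hU
      let K : Subgroup G := (AddSubgroup.toSubgroup' U).map N.subtype
      have hKn : K.Normal := ⟨fun x hx g => by
        obtain ⟨y, hy, rfl⟩ := hx
        exact ⟨Additive.toMul (g • Additive.ofMul y), hU (g : G ⧸ kerV G (Additive N)) _ hy, coe_conjAct N g _⟩⟩
      rcases hmin K hKn (by rintro _ ⟨y, -, rfl⟩; exact y.2) with h | h
      · left
        refine (AddSubgroup.eq_bot_iff_forall U).2 fun y hy => ?_
        have h1 : ((Additive.toMul y : N) : G) ∈ K := ⟨Additive.toMul y, hy, rfl⟩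
        rw [h, Subgroup.mem_bot, OneMemClass.coe_eq_one] at h1
        exact h1
      · right
        refine (AddSubgroup.eq_top_iff' U).2 fun y => ?_
        have h1 : ((Additive.toMul y : N) : G) ∈ K := h.ge (Additive.toMul y : N).2
        obtain ⟨z, hz, hzy⟩ := h1
        rwa [Subtype.ext hzy] at hz
    exact (bound_irred (A := G ⧸ kerV G (Additive N)) (V := Additive N)
      (Group.isSolvable_of_surjective (f := QuotientGroup.mk' (kerV G (Additive N)))
        (QuotientGroup.mk'_surjective _)) quot_faithful hirr (p := q) (n := n) hn (by omega)).trans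
      (Nat.mul_le_mul_left _ (classes_action N))

end Cfsg.Agent.Solv.C49
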