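import Mathlib

/-!
The arithmetic of the bound `49 p ≤ 60 (k + o)`.
-/

set_option autoImplicit false
set_option linter.style.haveILetI false
set_option linter.unusedVariables false

namespace Cfsg.Agent.Solv.C49

/-- The bound itself and the form it takes for a block of an imprimitive group. -/
def RS (p k o : ℕ) : Prop :=
  49 * p ≤ 60 * (k + o) ∧ ∀ m, 2 ≤ m → 49 * p * m ≤ 60 * (k + m * Nat.choose (o + m) m)

theorem RS.mono {p k k' o o' : ℕ} (h : RS p k o) (hk : k ≤ k') (ho : o ≤ o') : RS p k' o' := by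
  refine ⟨h.1.trans (by omega), fun m hm => (h.2 m hm).trans ?_⟩
  have := Nat.choose_le_choose m (show o + m ≤ o' + m by omega)
  have := Nat.mul_le_mul_left m this
  omega

theorem succ_le_choose (o m : ℕ) : m * o + 1 ≤ Nat.choose (o + m) m := by
  induction o with
  | zero => simp
  | succ o ih =>
    cases m with
    | zero => simp
    | succ m =>
      have h : Nat.choose (o + 1 + (m + 1)) (m + 1) =
          Nat.choose (o + (m + 1)) m + Nat.choose (o + (m + 1)) (m + 1) := by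
        rw [show o + 1 + (m + 1) = (o + (m + 1)) + 1 by omega, Nat.choose_succ_succ]
      have h1 : Nat.choose (m + 1) m ≤ Nat.choose (o + (m + 1)) m :=
        Nat.choose_le_choose m (by omega)
      rw [Nat.choose_succ_self_right] at h1
      rw [h, Nat.mul_succ]
      omega

theorem five_le_choose {o m : ℕ} (ho : 2 ≤ o) (hm : 2 ≤ m) :
    5 * (m * o) ≤ 4 * Nat.choose (o + m) m := by
  induction o, ho using Nat.le_induction with
  | base =>
    obtain ⟨j, rfl⟩ : ∃ j, m = j + 2 := ⟨m - 2, by omega⟩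
    have h : 2 * Nat.choose (2 + (j + 2)) (j + 2) = (j + 4) * (j + 3) := by
      rw [show 2 + (j + 2) = j + 4 by omega, show j + 2 = j + 4 - 2 by omega,
        Nat.choose_symm (by omega), Nat.choose_two_right, show j + 4 - 1 = j + 3 by omega]
      exact Nat.mul_div_cancel' (by
        have := Nat.two_dvd_mul_add_one (j + 3)
        rwa [mul_comm, show j + 3 + 1 = j + 4 by omega] at this)
    nlinarith
  | succ o ho ih =>
    obtain ⟨j, rfl⟩ : ∃ j, m = j + 1 := ⟨m - 1, by omega⟩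
    have h : Nat.choose (o + 1 + (j + 1)) (j + 1) =
        Nat.choose (o + (j + 1)) j + Nat.choose (o + (j + 1)) (j + 1) := by
      rw [show o + 1 + (j + 1) = (o + (j + 1)) + 1 by omega, Nat.choose_succ_succ]
    have h1 : Nat.choose (j + 2) j ≤ Nat.choose (o + (j + 1)) j := Nat.choose_le_choose j (by omega)
    have h2 : Nat.choose (j + 2) j = Nat.choose (j + 2) 2 := by
      rw [← Nat.choose_symm (show 2 ≤ j + 2 by omega), show j + 2 - 2 = j by omega]
    rw [h2, Nat.choose_two_right, show j + 2 - 1 = j + 1 by omega] at h1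
    have h3 : (j + 2) * (j + 1) / 2 * 2 = (j + 2) * (j + 1) := Nat.div_mul_cancel (by
      have := Nat.two_dvd_mul_add_one (j + 1)
      rwa [mul_comm, show j + 1 + 1 = j + 2 by omega] at this)
    rw [h, Nat.mul_succ]
    nlinarith

/-- A large product gives both forms. -/
theorem rs_of_prod {p k o : ℕ} (h : 2401 * p ^ 2 ≤ 14400 * (k * o)) : RS p k o := by
  refine ⟨?_, fun m hm => ?_⟩
  · have h1 : (49 * p) ^ 2 ≤ (60 * (k + o)) ^ 2 := by nlinarith [sq_nonneg ((k : ℤ) - o)]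
    exact Nat.pow_le_pow_iff_left (two_ne_zero) |>.1 h1
  · have h2 := succ_le_choose o m
    have h1 : (49 * p * m) ^ 2 ≤ (60 * (k + m * (m * o))) ^ 2 := by
      zify at *
      nlinarith [sq_nonneg ((k : ℤ) - m * (m * o)), mul_le_mul_of_nonneg_left h (sq_nonneg (m : ℤ))]
    refine (Nat.pow_le_pow_iff_left two_ne_zero |>.1 h1).trans ?_
    have := Nat.mul_le_mul_left m (show m * o ≤ Nat.choose (o + m) m by omega)
    omega

/-- A smaller product suffices with two orbits, once the sum is known. -/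
theorem rs_of_prod_two {p k o : ℕ} (hs : 49 * p ≤ 60 * (k + o)) (ho : 2 ≤ o)
    (h : 2401 * p ^ 2 ≤ 18000 * (k * o)) : RS p k o := by
  refine ⟨hs, fun m hm => ?_⟩
  have h2 := five_le_choose ho hm
  have h1 : (49 * p * m * 4) ^ 2 ≤ (60 * (4 * k + m * (5 * (m * o)))) ^ 2 := by
    zify at *
    nlinarith [sq_nonneg ((4 * k : ℤ) - 5 * m * (m * o)), mul_le_mul_of_nonneg_left h (sq_nonneg (m : ℤ))]
  have h3 := Nat.pow_le_pow_iff_left two_ne_zero |>.1 h1
  have := Nat.mul_le_mul_left m h2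
  nlinarith

/-- Finitely many block numbers matter. -/
theorem rs_of_check {p k o : ℕ} (ho : 1 ≤ o) (hs : 49 * p ≤ 60 * (k + o))
    (hr : ∀ m < 49 * p / 60 + 2, 2 ≤ m → 49 * p * m ≤ 60 * (k + m * Nat.choose (o + m) m)) :
    RS p k o := by
  refine ⟨hs, fun m hm => ?_⟩
  by_cases h : m < 49 * p / 60 + 2
  · exact hr m h hm
  · have h2 := succ_le_choose o m
    have h3 : 49 * p ≤ 60 * Nat.choose (o + m) m := by
      have : m ≤ m * o := Nat.le_mul_of_pos_right m ho
      omega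
    calc 49 * p * m ≤ 60 * Nat.choose (o + m) m * m := Nat.mul_le_mul_right m h3
      _ ≤ 60 * (k + m * Nat.choose (o + m) m) := by nlinarith

/-- Tiny primes. -/
theorem rs_tiny {p k o : ℕ} (hp : p ≤ 3) (hk : 2 ≤ k) (ho : 1 ≤ o) : RS p k o :=
  RS.mono (k := 2) (o := 1) (rs_of_check le_rfl (by omega) (by interval_cases p <;> decide)) hk ho

/-- The primes five and seven. -/
theorem rs_small {p k o : ℕ} (hp : p ≤ 7) (hk : 6 ≤ k) (ho : 1 ≤ o) : RS p k o :=
  RS.mono (k := 6) (o := 1) (rs_of_check le_rfl (by omega) (by interval_cases p <;> decide)) hk ho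

/-- The least orbit number allowed by `e` vectors and a group of order at most `w`. -/
def oLow (e w : ℕ) : ℕ := (e + w - 1) / w

theorem oLow_le {e w o : ℕ} (h : e ≤ o * w) : oLow e w ≤ o := by
  rcases Nat.eq_zero_or_pos w with rfl | hw
  · simp [oLow]
  · refine Nat.lt_succ_iff.1 ((Nat.div_lt_iff_lt_mul hw).2 ?_)
    rw [Nat.succ_mul]
    omega

/-- The decidable form. -/
def chk (p k o : ℕ) : Bool :=
  decide (49 * p ≤ 60 * (k + o)) && (List.range (49 * p / 60 + 2)).all fun m =>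
    decide (m < 2) || decide (49 * p * m ≤ 60 * (k + m * Nat.choose (o + m) m))

theorem rs_of_chk {p k o k' o' : ℕ} (h : chk p k o = true) (hk : k ≤ k') (ho : o ≤ o')
    (ho1 : 1 ≤ o) : RS p k' o' := by
  simp only [chk, Bool.and_eq_true, decide_eq_true_eq, List.all_eq_true, List.mem_range,
    Bool.or_eq_true] at h
  refine RS.mono (rs_of_check ho1 h.1 fun m hm h2 => ?_) hk ho
  rcases h.2 m hm with h3 | h3
  · omega
  · exact h3

theorem s2_small : ∀ p < 24, ∀ z < p, 5 ≤ p ∧ (p - 1) % z = 0 ∧ z % 2 = 0 ∧ Nat.Prime p →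
    chk p (4 * z) (oLow (p ^ 2 - 1) (24 * z)) = true ∧ 1 ≤ oLow (p ^ 2 - 1) (24 * z) := by
  decide +kernel

theorem s3_small_big : ∀ p < 44, ∀ z < p, 5 ≤ p ∧ (p - 1) % z = 0 ∧ z % 3 = 0 ∧ Nat.Prime p ∧
    ¬(p = 13 ∧ z = 12) → chk p (z - 1 + 5) (oLow (p ^ 3 - 1) (216 * z)) = true ∧
      1 ≤ oLow (p ^ 3 - 1) (216 * z) := by
  decide +kernel

theorem s3_small_thin : ∀ p < 44, ∀ z < p, 5 ≤ p ∧ (p - 1) % z = 0 ∧ z % 3 = 0 ∧ Nat.Prime p →
    chk p (z - 1 + 4) (oLow (p ^ 3 - 1) (108 * z)) = true ∧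
      1 ≤ oLow (p ^ 3 - 1) (108 * z) := by
  decide +kernel

theorem s4_small : ∀ p < 14, ∀ z < p, 11 ≤ p ∧ (p - 1) % z = 0 ∧ z % 2 = 0 ∧ Nat.Prime p →
    chk p (z - 1 + 5) (oLow (p ^ 4 - 1) (1152 * z)) = true ∧
      1 ≤ oLow (p ^ 4 - 1) (1152 * z) := by
  decide +kernel

theorem s8_eleven : ∀ z < 11, 10 % z = 0 ∧ z % 2 = 0 →
    chk 11 (z - 1 + 5) (oLow (11 ^ 8 - 1) (64 * 262144 * z)) = true ∧
      1 ≤ oLow (11 ^ 8 - 1) (64 * 262144 * z) := by
  decide +kernel

theorem thirteen_twelve : chk 13 16 2 = true := by decide +kernel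

/-- The case of a quotient of order twenty four in dimension two. -/
theorem rs_twentyfour {p z k o : ℕ} (hp : p.Prime) (hp5 : 5 ≤ p) (hz : z ∣ p - 1) (hz2 : 2 ∣ z)
    (hk : 4 * z ≤ k) (ho : p ^ 2 - 1 ≤ o * (24 * z)) : RS p k o := by
  have hzlt : z < p := by
    have := Nat.le_of_dvd (by omega) hz
    omega
  rcases Nat.lt_or_ge p 24 with hsm | hbig
  · obtain ⟨h1, h2⟩ := s2_small p hsm z hzlt ⟨hp5, Nat.mod_eq_zero_of_dvd hz, Nat.mod_eq_zero_of_dvd hz2, hp⟩
    exact rs_of_chk h1 hk (oLow_le ho) h2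
  have hz0 : 0 < z := Nat.pos_of_ne_zero fun h => by rw [h, Nat.zero_dvd] at hz; omega
  have ho1 : 1 ≤ o := by
    rcases Nat.eq_zero_or_pos o with rfl | h
    · have : 0 < p ^ 2 - 1 := by
        have : 5 ^ 2 ≤ p ^ 2 := Nat.pow_le_pow_left hp5 2
        omega
      omega
    · exact h
  obtain ⟨j, hj⟩ := hz
  have hpj : p = z * j + 1 := by omega
  refine RS.mono (k := 4 * z) (o := o) ?_ hk le_rfl
  have hsum : 49 * p ≤ 60 * (4 * z + o) := by
    have e : p ^ 2 - 1 = z * (j * (z * j + 2)) := by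
      rw [hpj]
      exact (Nat.sub_eq_iff_eq_add (Nat.one_le_pow _ _ (by omega))).2 (by ring)
    rw [e, show o * (24 * z) = z * (24 * o) by ring] at ho
    have h1 := Nat.le_of_mul_le_mul_left ho hz0
    rcases Nat.lt_or_ge j 10 with hjs | hjb
    · subst hpj
      interval_cases j <;> omega
    · subst hpj
      zify at h1 ⊢
      nlinarith [mul_nonneg (show (0 : ℤ) ≤ (z : ℤ) by positivity)
        (mul_nonneg (show (0 : ℤ) ≤ (j : ℤ) - 10 by omega) (show (0 : ℤ) ≤ 5 * (j : ℤ) - 48 by omega))]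
  have h24 : p ^ 2 - 1 ≤ 24 * z * o := by rw [mul_comm]; exact ho
  by_cases ho2 : 2 ≤ o
  · refine rs_of_prod_two hsum ho2 ?_
    have h25 : 25 ≤ p ^ 2 := Nat.pow_le_pow_left hp5 2
    have : 18000 * (4 * z * o) = 3000 * (24 * z * o) := by ring
    rw [this]
    omega
  · exfalso
    have ho1' : o = 1 := by omega
    subst ho1'
    have h3 : p * p ≤ 24 * z + 1 := by rw [pow_two] at h24; omega
    nlinarith

end Cfsg.Agent.Solv.C49
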