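import Cfsg.Agent.Lib.Solv.OddPair.Basic

/-!
Class numbers against orbit numbers: quotients, normal subgroups, subgroups of bounded index.
-/

set_option autoImplicit false
set_option linter.unusedSectionVars false
set_option linter.style.haveILetI false

namespace Cfsg.Agent.Solv.C49

universe u v

variable {G : Type u} [Group G] [Finite G]

/-- Classes inside a normal subgroup. -/
def clsIn (N : Subgroup G) : Set (ConjClasses G) := {c | ∃ x ∈ N, ConjClasses.mk x = c}

theorem mem_of_clsIn {N : Subgroup G} (hN : N.Normal) {x : G} (h : ConjClasses.mk x ∈ clsIn N) :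
    x ∈ N := by
  obtain ⟨y, hy, e⟩ := h
  obtain ⟨g, hg⟩ := isConj_iff.1 (ConjClasses.mk_eq_mk_iff_isConj.1 e)
  rw [← hg]
  exact hN.conj_mem y hy g

/-- Classes of the quotient and classes inside the normal subgroup. -/
theorem classes_quot_add (N : Subgroup G) [N.Normal] :
    Nat.card (ConjClasses (G ⧸ N)) + Nat.card (clsIn N) ≤ Nat.card (ConjClasses G) + 1 := by
  classical
  let f : ConjClasses G → ConjClasses (G ⧸ N) := ConjClasses.map (QuotientGroup.mk' N)
  haveI : Fintype (ConjClasses G) := Fintype.ofFinite _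
  haveI : Fintype (ConjClasses (G ⧸ N)) := Fintype.ofFinite _
  have hsurj : ∀ d : ConjClasses (G ⧸ N), d ≠ ConjClasses.mk 1 → ∃ c, c ∉ clsIn N ∧ f c = d := by
    intro d hd
    obtain ⟨q, rfl⟩ := ConjClasses.exists_rep d
    obtain ⟨x, rfl⟩ := QuotientGroup.mk'_surjective N q
    refine ⟨ConjClasses.mk x, fun h => hd ?_, rfl⟩
    have := mem_of_clsIn inferInstance h
    rw [show QuotientGroup.mk' N x = 1 from (QuotientGroup.eq_one_iff x).2 this]
  choose! c hc1 hc2 using hsurj
  have h1 : ((Finset.univ.erase (ConjClasses.mk (1 : G ⧸ N))).image c).card =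
      (Finset.univ.erase (ConjClasses.mk (1 : G ⧸ N))).card :=
    Finset.card_image_of_injOn fun a ha b hb e => by
      rw [← hc2 a (Finset.ne_of_mem_erase ha), ← hc2 b (Finset.ne_of_mem_erase hb), e]
  have hdisj : Disjoint ((Finset.univ.erase (ConjClasses.mk (1 : G ⧸ N))).image c)
      (clsIn N).toFinset := by
    rw [Finset.disjoint_left]
    intro a ha hb
    obtain ⟨d, hd, rfl⟩ := Finset.mem_image.1 ha
    exact hc1 d (Finset.ne_of_mem_erase hd) (Set.mem_toFinset.1 hb)
  have h2 := Finset.card_le_univ (((Finset.univ.erase (ConjClasses.mk (1 : G ⧸ N))).image c) ∪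
      (clsIn N).toFinset)
  rw [Finset.card_union_of_disjoint hdisj, h1, Finset.card_erase_of_mem (Finset.mem_univ _),
    Finset.card_univ, Set.toFinset_card, ← Nat.card_eq_fintype_card, ← Nat.card_eq_fintype_card,
    ← Nat.card_eq_fintype_card] at h2
  have h3 : 0 < Nat.card (ConjClasses (G ⧸ N)) := by
    haveI : Nonempty (ConjClasses (G ⧸ N)) := ⟨ConjClasses.mk 1⟩
    exact Nat.card_pos
  omega

/-- Orbits of a group acting on a normal subgroup as conjugation are at most the classes inside. -/
theorem orbits_le_clsIn {A : Type*} [Group A] {V : Type v} [AddCommGroup V] [Finite V]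
    [DistribMulAction A V] (N : Subgroup G) (j : V → G) (hj : Function.Injective j)
    (hjN : ∀ v, j v ∈ N) (φ : G →* A) (hφ : ∀ g v, j (φ g • v) = g * j v * g⁻¹) :
    Nat.card (MulAction.orbitRel.Quotient A V) ≤ Nat.card (clsIn N) := by
  haveI : Finite (MulAction.orbitRel.Quotient A V) := Quotient.finite _
  refine Nat.card_le_card_of_injective
    (fun o => ⟨ConjClasses.mk (j (Quotient.out o)), j _, hjN _, rfl⟩) ?_
  intro o o' h
  have h1 : ConjClasses.mk (j (Quotient.out o)) = ConjClasses.mk (j (Quotient.out o')) :=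
    congrArg Subtype.val h
  obtain ⟨g, hg⟩ := isConj_iff.1 (ConjClasses.mk_eq_mk_iff_isConj.1 h1)
  rw [← hφ] at hg
  rw [← Quotient.out_eq o, ← Quotient.out_eq o']
  exact Quotient.sound (MulAction.orbitRel_apply.2 ⟨(φ g)⁻¹, by
    show (φ g)⁻¹ • Quotient.out o' = Quotient.out o
    rw [← hj hg, inv_smul_smul]⟩)

/-- A subgroup meets every orbit-conjugation bound: an abelian normal subgroup of index `i` has
classes inside it numbering at least its order over `i`. -/
theorem card_le_clsIn_mul (N : Subgroup G) (hN : ∀ x ∈ N, ∀ y ∈ N, Commute x y) :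
    Nat.card N ≤ Nat.card (clsIn N) * N.index := by
  classical
  haveI : Fintype N := Fintype.ofFinite _
  haveI : Fintype (clsIn N) := Fintype.ofFinite _
  haveI : Fintype (G ⧸ N) := Fintype.ofFinite _
  rw [Subgroup.index_eq_card, Nat.card_eq_fintype_card, Nat.card_eq_fintype_card,
    Nat.card_eq_fintype_card, ← Finset.card_univ (α := N), ← Finset.card_univ (α := clsIn N),
    mul_comm]
  refine Finset.card_le_mul_card_image_of_maps_to
    (f := fun x : N => (⟨ConjClasses.mk (x : G), x, x.2, rfl⟩ : clsIn N))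
    (fun _ _ => Finset.mem_univ _) _ fun c _ => ?_
  rcases (Finset.univ.filter fun x : N => (⟨ConjClasses.mk (x : G), x, x.2, rfl⟩ : clsIn N) = c).eq_empty_or_nonempty
    with h0 | ⟨x0, hx0⟩
  · rw [h0]; simp
  rw [Finset.mem_filter] at hx0
  have hex : ∀ x ∈ Finset.univ.filter (fun x : N => (⟨ConjClasses.mk (x : G), x, x.2, rfl⟩ : clsIn N) = c),
      ∃ g : G, g * (x0 : G) * g⁻¹ = x := by
    intro x hx
    rw [Finset.mem_filter] at hx
    exact isConj_iff.1 (ConjClasses.mk_eq_mk_iff_isConj.1 (congrArg Subtype.val (hx0.2.trans hx.2.symm)))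
  choose! g hg using hex
  refine (Finset.card_le_card_of_injOn (fun x => (g x : G ⧸ N)) (fun _ _ => Finset.mem_univ _) ?_).trans
    Finset.card_univ.le
  intro x hx y hy e
  have hn : (g x)⁻¹ * g y ∈ N := QuotientGroup.eq.1 e
  refine Subtype.ext ?_
  rw [← hg x hx, ← hg y hy]
  have h1 : (g x)⁻¹ * g y * (x0 : G) = (x0 : G) * ((g x)⁻¹ * g y) := (hN _ hn _ x0.2).eq
  calc g x * (x0 : G) * (g x)⁻¹ = g x * ((x0 : G) * ((g x)⁻¹ * g y)) * (g y)⁻¹ := by group
    _ = g y * (x0 : G) * (g y)⁻¹ := by rw [← h1]; group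

/-- An element fixing no coset of a proper subgroup. -/
theorem exists_avoiding (B : Subgroup G) (hB : B ≠ ⊤) :
    ∃ x : G, ∀ g : G, g * x * g⁻¹ ∉ B := by
  classical
  by_contra hcon
  push Not at hcon
  haveI : Fintype G := Fintype.ofFinite G
  haveI : Fintype (G ⧸ B) := Fintype.ofFinite _
  haveI : Fintype (MulAction.orbitRel.Quotient G (G ⧸ B)) := Fintype.ofFinite _
  haveI : Subsingleton (MulAction.orbitRel.Quotient G (G ⧸ B)) :=
    (MulAction.pretransitive_iff_subsingleton_quotient G (G ⧸ B)).1 inferInstance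
  have h := MulAction.sum_card_fixedBy_eq_card_orbits_mul_card_group G (G ⧸ B)
  have h1 : Fintype.card (MulAction.orbitRel.Quotient G (G ⧸ B)) ≤ 1 :=
    Fintype.card_le_one_iff_subsingleton.2 inferInstance
  have h2 : ∀ a : G, 1 ≤ Fintype.card (MulAction.fixedBy (G ⧸ B) a) := by
    intro a
    obtain ⟨g, hg⟩ := hcon a
    refine Fintype.card_pos_iff.2 ⟨⟨((g⁻¹ : G) : G ⧸ B), ?_⟩⟩
    show ((a * g⁻¹ : G) : G ⧸ B) = ((g⁻¹ : G) : G ⧸ B)
    refine (QuotientGroup.eq.2 ?_).symm
    simpa [mul_assoc] using hg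
  have h3 : 1 < Fintype.card (MulAction.fixedBy (G ⧸ B) (1 : G)) := by
    have e : Fintype.card (MulAction.fixedBy (G ⧸ B) (1 : G)) = Fintype.card (G ⧸ B) :=
      Fintype.card_congr (Equiv.subtypeUnivEquiv fun x => one_smul G x)
    rw [e, ← Nat.card_eq_fintype_card, ← Subgroup.index_eq_card]
    have h4 : B.index ≠ 1 := fun h => hB (Subgroup.index_eq_one.1 h)
    have h5 : B.index ≠ 0 := Subgroup.index_ne_zero_of_finite
    omega
  have h6 : Fintype.card G < ∑ a : G, Fintype.card (MulAction.fixedBy (G ⧸ B) a) := by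
    rw [← Finset.card_univ, Finset.card_eq_sum_ones]
    exact Finset.sum_lt_sum (fun a _ => h2 a) ⟨1, Finset.mem_univ _, h3⟩
  rw [h] at h6
  nlinarith

/-- Classes of a proper subgroup. -/
theorem classes_sub_add (B : Subgroup G) (hB : B ≠ ⊤) :
    Nat.card (ConjClasses B) + B.index ≤ Nat.card (ConjClasses G) * B.index := by
  classical
  haveI : Fintype (ConjClasses B) := Fintype.ofFinite _
  haveI : Fintype (ConjClasses G) := Fintype.ofFinite _
  haveI : Fintype (G ⧸ B) := Fintype.ofFinite _
  obtain ⟨x, hx⟩ := exists_avoiding B hB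
  let f : ConjClasses B → ConjClasses G := ConjClasses.map B.subtype
  have himg : ∀ c ∈ (Finset.univ : Finset (ConjClasses B)),
      f c ∈ Finset.univ.erase (ConjClasses.mk x) := by
    intro c _
    refine Finset.mem_erase.2 ⟨?_, Finset.mem_univ _⟩
    obtain ⟨b, rfl⟩ := ConjClasses.exists_rep c
    intro e
    have e' : ConjClasses.mk (b : G) = ConjClasses.mk x := e
    obtain ⟨g, hg⟩ := isConj_iff.1 (ConjClasses.mk_eq_mk_iff_isConj.1 e')
    refine hx g⁻¹ ?_
    rw [← hg]
    simpa [mul_assoc] using b.2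
  have h := Finset.card_le_mul_card_image_of_maps_to himg B.index fun d _ => by
    rcases (Finset.univ.filter fun c : ConjClasses B => f c = d).eq_empty_or_nonempty with h0 | ⟨c0, hc0⟩
    · rw [h0]; simp
    rw [Finset.mem_filter] at hc0
    obtain ⟨b0, rfl⟩ := ConjClasses.exists_rep c0
    have hex : ∀ c ∈ Finset.univ.filter (fun c : ConjClasses B => f c = d),
        ∃ (b : B) (g : G), ConjClasses.mk b = c ∧ g * (b0 : G) * g⁻¹ = b := by
      intro c hc
      rw [Finset.mem_filter] at hc
      obtain ⟨b, rfl⟩ := ConjClasses.exists_rep c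
      have e : ConjClasses.mk (b0 : G) = ConjClasses.mk (b : G) := hc0.2.trans hc.2.symm
      obtain ⟨g, hg⟩ := isConj_iff.1 (ConjClasses.mk_eq_mk_iff_isConj.1 e)
      exact ⟨b, g, rfl, hg⟩
    choose! bb g hb hg using hex
    rw [Subgroup.index_eq_card, Nat.card_eq_fintype_card, ← Finset.card_univ]
    refine Finset.card_le_card_of_injOn (fun c => (((g c)⁻¹ : G) : G ⧸ B)) (fun _ _ => Finset.mem_univ _) ?_
    intro c hc c' hc' e
    have hn : g c * (g c')⁻¹ ∈ B := by simpa using QuotientGroup.eq.1 e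
    rw [← hb c hc, ← hb c' hc', ConjClasses.mk_eq_mk_iff_isConj, isConj_iff]
    refine ⟨⟨g c * (g c')⁻¹, hn⟩⁻¹, Subtype.ext ?_⟩
    show (g c * (g c')⁻¹)⁻¹ * (bb c : G) * (g c * (g c')⁻¹)⁻¹⁻¹ = bb c'
    rw [← hg c hc, ← hg c' hc']
    group
  rw [Finset.card_univ, Finset.card_erase_of_mem (Finset.mem_univ _), Finset.card_univ,
    ← Nat.card_eq_fintype_card, ← Nat.card_eq_fintype_card, mul_comm, Nat.sub_mul, one_mul] at h
  have h7 : B.index ≤ Nat.card (ConjClasses G) * B.index := by
    haveI : Nonempty (ConjClasses G) := ⟨ConjClasses.mk 1⟩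
    exact Nat.le_mul_of_pos_left _ Nat.card_pos
  omega

variable {A : Type u} [Group A] [Finite A] {V : Type v} [AddCommGroup V] [Finite V]
  [DistribMulAction A V]

/-- The nonzero vectors are covered by the orbits. -/
theorem card_le_orbits : Nat.card V ≤
    (Nat.card (MulAction.orbitRel.Quotient A V) - 1) * Nat.card A + 1 := by
  classical
  haveI : Fintype V := Fintype.ofFinite V
  haveI : Finite (MulAction.orbitRel.Quotient A V) := Quotient.finite _
  haveI : Fintype (MulAction.orbitRel.Quotient A V) := Fintype.ofFinite _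
  haveI : Fintype A := Fintype.ofFinite A
  let f : V → MulAction.orbitRel.Quotient A V := Quotient.mk''
  have himg : ∀ x ∈ Finset.univ.erase (0 : V), f x ∈ Finset.univ.erase (f 0) := by
    intro x hx
    refine Finset.mem_erase.2 ⟨fun e => Finset.ne_of_mem_erase hx ?_, Finset.mem_univ _⟩
    obtain ⟨a, ha⟩ := MulAction.orbitRel_apply.1 (Quotient.exact' e)
    rw [← ha]
    exact smul_zero a
  have h := Finset.card_le_mul_card_image_of_maps_to himg (Nat.card A) fun d _ => by
    rcases ((Finset.univ.erase (0 : V)).filter fun x => f x = d).eq_empty_or_nonempty with h0 | ⟨x0, hx0⟩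
    · rw [h0]; simp
    rw [Finset.mem_filter] at hx0
    rw [Nat.card_eq_fintype_card, ← Finset.card_univ]
    refine (Finset.card_le_card (t := Finset.univ.image fun a : A => a • x0) ?_).trans Finset.card_image_le
    intro x hx
    rw [Finset.mem_filter] at hx
    obtain ⟨a, ha⟩ := MulAction.orbitRel_apply.1 (Quotient.exact' (hx.2.trans hx0.2.symm))
    exact Finset.mem_image.2 ⟨a, Finset.mem_univ _, ha⟩
  rw [Finset.card_erase_of_mem (Finset.mem_univ _), Finset.card_univ,
    Finset.card_erase_of_mem (Finset.mem_univ _), Finset.card_univ, ← Nat.card_eq_fintype_card,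
    ← Nat.card_eq_fintype_card, mul_comm] at h
  omega

/-- Two orbits on a nontrivial module at least. -/
theorem two_le_orbits [Nontrivial V] : 2 ≤ Nat.card (MulAction.orbitRel.Quotient A V) := by
  have h := card_le_orbits (A := A) (V := V)
  have h1 : 1 < Nat.card V := Finite.one_lt_card_iff_nontrivial.2 inferInstance
  by_contra hc
  rw [show Nat.card (MulAction.orbitRel.Quotient A V) - 1 = 0 by omega] at h
  omega

/-- A transitive group has order divisible by the number of nonzero vectors. -/
theorem dvd_of_transitive (h2 : Nat.card (MulAction.orbitRel.Quotient A V) = 2) :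
    Nat.card V - 1 ∣ Nat.card A := by
  classical
  haveI : Fintype V := Fintype.ofFinite V
  obtain ⟨x, hx⟩ : ∃ x : V, x ≠ 0 := by
    by_contra hc
    push Not at hc
    haveI : Subsingleton V := ⟨fun a b => by rw [hc a, hc b]⟩
    have h3 : Nat.card (MulAction.orbitRel.Quotient A V) ≤ Nat.card V :=
      Nat.card_le_card_of_surjective (fun x : V => (Quotient.mk'' x : MulAction.orbitRel.Quotient A V))
        fun q => ⟨q.out, Quotient.out_eq' q⟩
    rw [h2, Nat.card_of_subsingleton (0 : V)] at h3
    omega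
  haveI : Finite (MulAction.orbitRel.Quotient A V) := Quotient.finite _
  have horb : MulAction.orbit A x = {y : V | y ≠ 0} := by
    ext y
    refine ⟨?_, fun hy => ?_⟩
    · rintro ⟨a, rfl⟩
      exact fun e => hx ((smul_eq_zero_iff_eq a).1 e)
    · haveI : Fintype (MulAction.orbitRel.Quotient A V) := Fintype.ofFinite _
      have hne : ∀ z : V, z ≠ 0 →
          (Quotient.mk'' z : MulAction.orbitRel.Quotient A V) ≠ Quotient.mk'' 0 := fun z hz e => by
        obtain ⟨a, ha⟩ := MulAction.orbitRel_apply.1 (Quotient.exact' e)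
        exact hz (by rw [← ha]; exact smul_zero a)
      have hc : (Finset.univ.erase (Quotient.mk'' 0 : MulAction.orbitRel.Quotient A V)).card = 1 := by
        rw [Finset.card_erase_of_mem (Finset.mem_univ _), Finset.card_univ, ← Nat.card_eq_fintype_card, h2]
      exact MulAction.orbitRel_apply.1 (Quotient.exact' (Finset.card_le_one.1 hc.le _
        (Finset.mem_erase.2 ⟨hne y hy, Finset.mem_univ _⟩) _
        (Finset.mem_erase.2 ⟨hne x hx, Finset.mem_univ _⟩)))
  have h1 : Nat.card (MulAction.orbit A x) = Nat.card V - 1 := by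
    rw [horb, Nat.card_eq_fintype_card, Nat.card_eq_fintype_card]
    exact Fintype.card_subtype_compl _ |>.trans (by rw [Fintype.card_subtype_eq])
  rw [← h1, Nat.card_congr (MulAction.orbitEquivQuotientStabilizer A x)]
  exact Subgroup.card_quotient_dvd_card _

end Cfsg.Agent.Solv.C49
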