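import Mathlib

/-!
Groups with at most three classes.
-/

set_option autoImplicit false
set_option linter.unusedSectionVars false
set_option linter.style.haveILetI false

namespace Cfsg.Agent.Solv.C49

theorem arith_three {n a b : ℕ} (hn : a + b + 1 = n) (ha : a ∣ n) (hb : b ∣ n) (hba : b ≤ a)
    (han : a < n) : n ≤ 6 := by
  obtain ⟨j, hj⟩ := ha
  have h2 : 2 ≤ j := by
    by_contra h
    interval_cases j <;> omega
  by_cases h3 : 3 ≤ j
  · have : 3 * a ≤ n := by rw [hj, mul_comm a j]; exact Nat.mul_le_mul_right a h3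
    omega
  · obtain rfl : j = 2 := by omega
    have e : n = 2 * b + 2 := by omega
    rw [e] at hb
    have h4 : b ∣ 2 := (Nat.dvd_add_right (Dvd.intro_left 2 rfl)).1 hb
    have := Nat.le_of_dvd (by norm_num) h4
    omega

/-- At most three classes means order at most six. -/
theorem card_le_six {G : Type*} [Group G] [Finite G] (hk : Nat.card (ConjClasses G) ≤ 3) :
    Nat.card G ≤ 6 := by
  classical
  haveI : Fintype G := Fintype.ofFinite G
  haveI : Fintype (ConjClasses G) := Fintype.ofFinite _
  rw [Nat.card_eq_fintype_card] at hk ⊢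
  let sz : ConjClasses G → ℕ := fun c => c.carrier.toFinset.card
  have hdvd : ∀ c, sz c ∣ Fintype.card G := by
    intro c
    obtain ⟨g, rfl⟩ := ConjClasses.exists_rep c
    have e : sz (ConjClasses.mk g) = Nat.card (MulAction.orbit (ConjAct G) g) := by
      rw [ConjAct.orbit_eq_carrier_conjClasses, Nat.card_eq_fintype_card, ← Set.toFinset_card]
    rw [e, Nat.card_congr (MulAction.orbitEquivQuotientStabilizer (ConjAct G) g)]
    have := Subgroup.card_quotient_dvd_card (MulAction.stabilizer (ConjAct G) g)
    rwa [Nat.card_eq_fintype_card (α := ConjAct G), ConjAct.card] at this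
  have hpos : ∀ c, 1 ≤ sz c := by
    intro c
    obtain ⟨g, rfl⟩ := ConjClasses.exists_rep c
    exact Finset.card_pos.2 ⟨g, Set.mem_toFinset.2 ConjClasses.mem_carrier_mk⟩
  have h1 : sz (ConjClasses.mk 1) = 1 := by
    refine Finset.card_eq_one.2 ⟨1, Finset.ext fun x => ?_⟩
    rw [Set.mem_toFinset, Finset.mem_singleton, ConjClasses.mem_carrier_iff_mk_eq,
      ConjClasses.mk_eq_mk_iff_isConj]
    exact ⟨fun h => isConj_one_left.1 h, fun h => h ▸ IsConj.refl _⟩
  have hsum : ∑ c, sz c = Fintype.card G := sum_conjClasses_card_eq_card G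
  rw [← Finset.add_sum_erase _ _ (Finset.mem_univ (ConjClasses.mk (1 : G))), h1] at hsum
  have hc : (Finset.univ.erase (ConjClasses.mk (1 : G))).card ≤ 2 := by
    rw [Finset.card_erase_of_mem (Finset.mem_univ _), Finset.card_univ]
    omega
  rcases Nat.eq_zero_or_pos (Finset.univ.erase (ConjClasses.mk (1 : G))).card with h0 | hp
  · rw [Finset.card_eq_zero.1 h0, Finset.sum_empty] at hsum
    omega
  rcases (show (Finset.univ.erase (ConjClasses.mk (1 : G))).card = 1 ∨
      (Finset.univ.erase (ConjClasses.mk (1 : G))).card = 2 by omega) with h | h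
  · obtain ⟨c, hc'⟩ := Finset.card_eq_one.1 h
    rw [hc', Finset.sum_singleton] at hsum
    have h2 := hdvd c
    rw [← hsum] at h2
    have := Nat.le_of_dvd (by norm_num) ((Nat.dvd_add_left dvd_rfl).1 h2)
    omega
  · obtain ⟨c, d, hcd, hc'⟩ := Finset.card_eq_two.1 h
    rw [hc', Finset.sum_pair hcd] at hsum
    have := hpos c
    have := hpos d
    rcases le_total (sz d) (sz c) with hle | hle
    · exact arith_three (n := Fintype.card G) (a := sz c) (b := sz d) (by omega) (hdvd c) (hdvd d) hle (by omega)
    · exact arith_three (n := Fintype.card G) (a := sz d) (b := sz c) (by omega) (hdvd d) (hdvd c) hle (by omega)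

/-- Two classes force order two. -/
theorem card_le_two_of_two_classes {G : Type*} [Group G] [Finite G]
    (hk : Nat.card (ConjClasses G) = 2) : Nat.card G ≤ 2 := by
  classical
  haveI : Fintype G := Fintype.ofFinite G
  haveI : Fintype (ConjClasses G) := Fintype.ofFinite _
  rw [Nat.card_eq_fintype_card] at hk ⊢
  have hsum : ∑ c : ConjClasses G, c.carrier.toFinset.card = Fintype.card G :=
    sum_conjClasses_card_eq_card G
  rw [← Finset.add_sum_erase _ _ (Finset.mem_univ (ConjClasses.mk (1 : G)))] at hsum
  have h1 : (ConjClasses.mk (1 : G)).carrier.toFinset.card = 1 := by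
    refine Finset.card_eq_one.2 ⟨1, Finset.ext fun x => ?_⟩
    rw [Set.mem_toFinset, Finset.mem_singleton, ConjClasses.mem_carrier_iff_mk_eq,
      ConjClasses.mk_eq_mk_iff_isConj]
    exact ⟨fun h => isConj_one_left.1 h, fun h => h ▸ IsConj.refl _⟩
  obtain ⟨c, hc⟩ : ∃ c, Finset.univ.erase (ConjClasses.mk (1 : G)) = {c} := Finset.card_eq_one.1 (by
    rw [Finset.card_erase_of_mem (Finset.mem_univ _), Finset.card_univ, hk])
  rw [h1, hc, Finset.sum_singleton] at hsum
  obtain ⟨g, rfl⟩ := ConjClasses.exists_rep c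
  have h2 : (ConjClasses.mk g).carrier.toFinset.card ∣ Fintype.card G := by
    rw [show (ConjClasses.mk g).carrier.toFinset.card = Nat.card (MulAction.orbit (ConjAct G) g) by
      rw [ConjAct.orbit_eq_carrier_conjClasses, Nat.card_eq_fintype_card, ← Set.toFinset_card],
      Nat.card_congr (MulAction.orbitEquivQuotientStabilizer (ConjAct G) g)]
    have := Subgroup.card_quotient_dvd_card (MulAction.stabilizer (ConjAct G) g)
    rwa [Nat.card_eq_fintype_card (α := ConjAct G), ConjAct.card] at this
  rw [← hsum] at h2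
  have := Nat.le_of_dvd (by norm_num) ((Nat.dvd_add_left dvd_rfl).1 h2)
  omega

end Cfsg.Agent.Solv.C49
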