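import Mathlib
import Cfsg.Agent.Lib.Perm.Primitive
import Cfsg.Agent.Lib.Solv.Basic

/-!
A solvable permutation group of degree `n` has order at most `3 ^ (n - 1)`.
-/

set_option autoImplicit false
set_option linter.unusedSectionVars false
set_option linter.style.haveILetI false

namespace Cfsg.Agent.Solv.C49

universe u v

open MulAction
open scoped Pointwise

theorem small_deg : ∀ n < 9, ∀ d < 4, 2 ^ d ≤ n → n * (n - 1).descFactorial d ≤ 3 ^ (n - 1) := by
  decide +kernel

theorem mid_deg : ∀ n < 64, 9 ≤ n → n ^ (Nat.log 2 n + 1) ≤ 3 ^ (n - 1) := by decide +kernel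

theorem sq_succ_lt_two_pow : ∀ D, 6 ≤ D → (D + 1) ^ 2 + 1 ≤ 2 ^ D := by
  intro D hD
  induction D, hD using Nat.le_induction with
  | base => norm_num
  | succ D hD ih =>
    rw [pow_succ 2 D]
    nlinarith

theorem perm_arith {l d n : ℕ} (hl : 2 ≤ l) (hn : n = l ^ d) :
    n * (n - 1).descFactorial d ≤ 3 ^ (n - 1) := by
  have h2 : 2 ^ d ≤ n := hn ▸ Nat.pow_le_pow_left hl d
  rcases Nat.lt_or_ge n 9 with h | h
  · refine small_deg n h d ?_ h2
    by_contra hd
    have := Nat.pow_le_pow_right (show 1 ≤ 2 by norm_num) (show 4 ≤ d by omega)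
    omega
  have hD : d ≤ Nat.log 2 n := Nat.le_log_of_pow_le (by norm_num) h2
  have h1 : n * (n - 1).descFactorial d ≤ n ^ (Nat.log 2 n + 1) := by
    rw [pow_succ']
    refine Nat.mul_le_mul_left _ ((Nat.descFactorial_le_pow _ _).trans ?_)
    exact (Nat.pow_le_pow_left (by omega) d).trans (Nat.pow_le_pow_right (by omega) hD)
  refine h1.trans ?_
  rcases Nat.lt_or_ge n 64 with h64 | h64
  · exact mid_deg n h64 h
  obtain ⟨D, hDdef⟩ : ∃ D, D = Nat.log 2 n := ⟨_, rfl⟩
  rw [← hDdef]
  have hlo : 2 ^ D ≤ n := hDdef ▸ Nat.pow_log_le_self 2 (by omega)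
  have hhi : n ≤ 2 ^ (D + 1) := hDdef ▸ (Nat.lt_pow_succ_log_self (by norm_num) n).le
  have h6 : 6 ≤ D := hDdef ▸ Nat.le_log_of_pow_le (by norm_num) (by norm_num; omega)
  have := sq_succ_lt_two_pow D h6
  calc n ^ (D + 1) ≤ (2 ^ (D + 1)) ^ (D + 1) := Nat.pow_le_pow_left hhi _
    _ = 2 ^ ((D + 1) ^ 2) := by rw [← pow_mul, pow_two]
    _ ≤ 2 ^ (n - 1) := Nat.pow_le_pow_right (by norm_num) (by omega)
    _ ≤ 3 ^ (n - 1) := Nat.pow_le_pow_left (by norm_num) _

/-- The induction hypothesis. -/
def PermBelow (n : ℕ) : Prop :=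
  ∀ (A : Type u) (Ω : Type v) [Group A] [Finite A] [MulAction A Ω] [Finite Ω],
    Group.IsSolvable A → 1 ≤ Nat.card Ω → Nat.card Ω ≤ n →
      (MulAction.toPermHom A Ω).ker.index ≤ 3 ^ (Nat.card Ω - 1)

/-- The kernel of the action on an invariant set. -/
theorem index_fixing_le {n : ℕ} (ih : PermBelow.{u, v} n) {A : Type u} {Ω : Type v} [Group A]
    [Finite A] [MulAction A Ω] [Finite Ω] (hA : Group.IsSolvable A) (H : Subgroup A) (P : Set Ω)
    (hP : ∀ h ∈ H, ∀ x ∈ P, h • x ∈ P) (hP1 : P.Nonempty) (hPn : Nat.card P ≤ n) :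
    (fixingSubgroup A P).relIndex H ≤ 3 ^ (Nat.card P - 1) := by
  letI : MulAction H P :=
    { smul := fun h x => ⟨(h : A) • (x : Ω), hP h h.2 x x.2⟩
      one_smul := fun x => Subtype.ext (one_smul A (x : Ω))
      mul_smul := fun h k x => Subtype.ext (mul_smul (h : A) (k : A) (x : Ω)) }
  haveI := hA
  haveI : Nonempty P := hP1.to_subtype
  have h1 := ih H P inferInstance Nat.card_pos hPn
  have e : (MulAction.toPermHom H P).ker = (fixingSubgroup A P).subgroupOf H := by
    ext h
    rw [MonoidHom.mem_ker, Subgroup.mem_subgroupOf, mem_fixingSubgroup_iff]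
    exact ⟨fun e x hx => congrArg Subtype.val (Equiv.Perm.congr_fun e ⟨x, hx⟩),
      fun e => Equiv.Perm.ext fun x => Subtype.ext (e x x.2)⟩
  rwa [e] at h1

/-- Automorphisms of an elementary abelian group are seen on a basis. -/
theorem card_le_descFactorial {S : Type*} {V : Type*} [AddCommGroup V] [Finite V] {l : ℕ}
    [Fact l.Prime] [Module (ZMod l) V] (φ : S → V ≃+ V) (hφ : Function.Injective φ) :
    ∃ d, Nat.card V = l ^ d ∧ Nat.card S ≤ (Nat.card V - 1).descFactorial d := by
  classical
  let b := Module.finBasis (ZMod l) V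
  refine ⟨Module.finrank (ZMod l) V, by rw [Module.natCard_eq_pow_finrank (K := ZMod l), Nat.card_zmod], ?_⟩
  haveI : Fintype V := Fintype.ofFinite V
  let f : S → (Fin (Module.finrank (ZMod l) V) ↪ {x : V // ¬ x = 0}) := fun s =>
    ⟨fun i => ⟨φ s (b i), fun h => b.ne_zero i ((φ s).injective (h.trans (map_zero _).symm))⟩,
      fun i j h => b.injective ((φ s).injective (congrArg Subtype.val h))⟩
  have hf : Function.Injective f := by
    intro s t h
    refine hφ (AddEquiv.ext fun x => ?_)
    have e : (φ s).toAddMonoidHom.toZModLinearMap l = (φ t).toAddMonoidHom.toZModLinearMap l :=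
      b.ext fun i => congrArg Subtype.val (DFunLike.congr_fun h i)
    exact LinearMap.congr_fun e x
  refine (Nat.card_le_card_of_injective f hf).trans (le_of_eq ?_)
  rw [Nat.card_eq_fintype_card, Fintype.card_embedding_eq, Fintype.card_fin,
    Fintype.card_subtype_compl, Fintype.card_subtype_eq, Nat.card_eq_fintype_card]

/-- The primitive case. -/
theorem card_le_of_primitive {A : Type u} {Ω : Type v} [Group A] [Finite A] [MulAction A Ω]
    [Finite Ω] [FaithfulSMul A Ω] [IsPreprimitive A Ω] [Nontrivial A]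
    (hA : Group.IsSolvable A) (ω : Ω) : Nat.card A ≤ 3 ^ (Nat.card Ω - 1) := by
  classical
  obtain ⟨M, hMn, hMne, hmin⟩ := Cfsg.Agent.Solv.exists_minimal_normal (G := A)
  haveI := hMn
  haveI := hA
  obtain ⟨hMc, l, hl, hlM, hlg⟩ :=
    Cfsg.Agent.Solv.minimal_normal_elementaryAbelian M inferInstance hMne hmin
  haveI := Fact.mk hl
  haveI := Cfsg.Agent.Perm.normal_isPretransitive (Ω := Ω) M hMne
  have hreg := Cfsg.Agent.Perm.stabilizer_eq_bot_of_isMulCommutative (Ω := Ω) hMc ω
  have hcard := Cfsg.Agent.Perm.card_eq_of_regular ω hreg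
  letI : CommGroup M := { (inferInstance : Group M) with mul_comm := hMc.is_comm.comm }
  letI : Module (ZMod l) (Additive M) :=
    AddCommGroup.zmodModule (n := l) (G := Additive M) fun x : Additive M => by
      refine Additive.toMul.injective (Subtype.ext ?_)
      rw [toMul_nsmul, toMul_zero, SubgroupClass.coe_pow]
      exact hlM _ x.toMul.2
  haveI : Finite (Additive M) := inferInstanceAs (Finite M)
  let φ : stabilizer A ω → (Additive M ≃+ Additive M) := fun s =>
    MulEquiv.toAdditive (MulAut.conjNormal (H := M) (s : A))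
  have hφ : Function.Injective φ := by
    intro s t h
    have h3 : ∀ m ∈ M, (s : A) * m * (s : A)⁻¹ = t * m * (t : A)⁻¹ := fun m hm => by
      have h4 := congrArg (fun x : Additive M => (x.toMul : A))
        (DFunLike.congr_fun h (Additive.ofMul (⟨m, hm⟩ : M)))
      simpa [φ, MulEquiv.toAdditive, MulAut.conjNormal_apply] using h4
    have h5 : (t : A)⁻¹ * s ∈ Subgroup.centralizer (M : Set A) := by
      refine Subgroup.mem_centralizer_iff.2 fun m hm => ?_
      calc m * ((t : A)⁻¹ * s) = (t : A)⁻¹ * (t * m * (t : A)⁻¹) * s := by group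
        _ = (t : A)⁻¹ * (s * m * (s : A)⁻¹) * s := by rw [h3 m hm]
        _ = (t : A)⁻¹ * s * m := by group
    have h6 := Cfsg.Agent.Perm.eq_one_of_centralizes (Ω := Ω) h5 (ω := ω) (by
      rw [mul_smul, mem_stabilizer_iff.1 s.2]
      exact (mem_stabilizer_iff.1 ((stabilizer A ω).inv_mem t.2)))
    exact Subtype.ext (inv_mul_eq_one.1 h6).symm
  obtain ⟨d, hd, hs⟩ := card_le_descFactorial (l := l) φ hφ
  rw [Nat.card_congr (Additive.toMul (α := M)), ← hcard] at hd hs
  haveI : IsPretransitive A Ω := inferInstance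
  have hA' : Nat.card A = Nat.card Ω * Nat.card (stabilizer A ω) := by
    rw [← index_stabilizer_of_transitive A ω, mul_comm, Subgroup.card_mul_index]
  rw [hA']
  exact (Nat.mul_le_mul_left _ hs).trans (perm_arith hl.two_le hd)

theorem permBelow_all : ∀ n, PermBelow.{u, v} n := by
  intro n
  induction n with
  | zero => intro A Ω _ _ _ _ _ h1 h0; omega
  | succ n ih =>
    intro A Ω _ _ _ _ hA h1 hn
    classical
    haveI : Fintype Ω := Fintype.ofFinite Ω
    haveI : Nonempty Ω := (Nat.card_pos_iff.1 h1).1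
    obtain ⟨ω⟩ := (inferInstance : Nonempty Ω)
    -- cover by two invariant sets
    by_cases htr : IsPretransitive A Ω
    · by_cases hprim : IsPreprimitive A Ω
      · let ρ := MulAction.toPermHom A Ω
        rw [Subgroup.index_ker]
        rcases subsingleton_or_nontrivial ρ.range with hs | hnt
        · rw [Nat.card_of_subsingleton (1 : ρ.range)]
          exact Nat.one_le_pow _ _ (by norm_num)
        haveI : IsPreprimitive ρ.range Ω :=
          IsPreprimitive.of_surjective (f := ({ toFun := id, map_smul' := fun a x => rfl } :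
            Ω →ₑ[ρ.rangeRestrict] Ω)) Function.surjective_id
        haveI := hA
        exact card_le_of_primitive (A := ρ.range)
          (Group.isSolvable_of_surjective ρ.rangeRestrict_surjective) ω
      · obtain ⟨T, hT, hT1, hT2⟩ : ∃ T : Set Ω, IsBlock A T ∧ T.Nontrivial ∧ T ≠ Set.univ := by
          by_contra hcon
          push Not at hcon
          refine hprim ⟨fun {T} hT => ?_⟩
          by_cases hs : T.Subsingleton
          · exact Or.inl hs
          · exact Or.inr (hcon T hT (Set.not_subsingleton_iff.1 hs))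
        have hmul := hT.ncard_block_mul_ncard_orbit_eq hT1.nonempty
        have hTlt : T.ncard < Nat.card Ω := by
          rw [← Set.ncard_univ]
          exact Set.ncard_lt_ncard (Set.ssubset_univ_iff.2 hT2) Set.finite_univ
        have hT2' : 2 ≤ T.ncard := Set.one_lt_ncard_iff_nontrivial.2 hT1
        obtain ⟨b, hb⟩ : ∃ b, b = (Set.range fun g : A => g • T).ncard := ⟨_, rfl⟩
        rw [show (MulAction.orbit A T).ncard = b from hb ▸ rfl] at hmul
        have hb1 : 1 ≤ b := Nat.pos_of_ne_zero fun h => by rw [h, mul_zero] at hmul; omega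
        have hblt : b < Nat.card Ω := by nlinarith
        -- the kernel on the blocks
        have hbn : Nat.card (orbit A T) = b := by rw [hb]; rfl
        have hN := ih A (orbit A T) hA (hbn ▸ hb1) (hbn ▸ (by omega : b ≤ n))
        rw [hbn] at hN
        obtain ⟨N, hNdef⟩ : ∃ N, N = (toPermHom A (orbit A T)).ker := ⟨_, rfl⟩
        rw [← hNdef] at hN
        have hfixW : ∀ W ∈ orbit A T, ∀ h ∈ N, ∀ x ∈ W, h • x ∈ W := by
          intro W hW h hh x hx
          rw [hNdef] at hh
          have e : h • (⟨W, hW⟩ : orbit A T) = ⟨W, hW⟩ := Equiv.Perm.congr_fun hh ⟨W, hW⟩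
          have e' : h • W = W := congrArg Subtype.val e
          rw [← e']
          exact Set.smul_mem_smul_set hx
        haveI : Fintype (orbit A T) := Fintype.ofFinite _
        have hcomp : ∀ s : Finset (orbit A T),
            ((⨅ W ∈ s, fixingSubgroup A (W : Set Ω)) ⊓ N).relIndex N ≤
              (3 ^ (T.ncard - 1)) ^ s.card := by
          intro s
          induction s using Finset.induction_on with
          | empty => simp
          | insert W s hW ihs =>
            have hWc : Nat.card (W : Set Ω) = T.ncard := by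
              obtain ⟨g, hg⟩ := W.2
              rw [Nat.card_coe_set_eq, ← hg]
              exact Set.ncard_image_of_injective _ (MulAction.injective g)
            have h2 := index_fixing_le ih hA N (W : Set Ω) (hfixW W W.2)
              (by obtain ⟨g, hg⟩ := W.2; rw [← hg]; exact hT1.nonempty.smul_set)
              (by rw [hWc]; omega)
            rw [hWc] at h2
            rw [Finset.iInf_insert, Finset.card_insert_of_notMem hW, pow_succ, mul_comm,
              Subgroup.inf_relIndex_right]
            rw [Subgroup.inf_relIndex_right] at ihs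
            exact le_trans Subgroup.relIndex_inf_le (Nat.mul_le_mul h2 ihs)
        have h3 := hcomp Finset.univ
        rw [Subgroup.inf_relIndex_right, Finset.card_univ, ← Nat.card_eq_fintype_card, hbn] at h3
        have hker : (⨅ W ∈ (Finset.univ : Finset (orbit A T)), fixingSubgroup A (W : Set Ω)) ⊓ N ≤
            (toPermHom A Ω).ker := by
          intro g hg
          refine Equiv.Perm.ext fun x => ?_
          obtain ⟨a, ha⟩ := exists_smul_eq A hT1.nonempty.choose x
          have hx : x ∈ a • T := ha ▸ Set.smul_mem_smul_set hT1.nonempty.choose_spec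
          have h4 := Subgroup.mem_iInf.1 (Subgroup.mem_iInf.1 hg.1 ⟨a • T, a, rfl⟩) (Finset.mem_univ _)
          exact (mem_fixingSubgroup_iff _).1 h4 x hx
        have h4 : (toPermHom A Ω).ker.index ≤
            ((⨅ W ∈ (Finset.univ : Finset (orbit A T)), fixingSubgroup A (W : Set Ω)) ⊓ N).index :=
          Nat.le_of_dvd (Nat.pos_of_ne_zero Subgroup.index_ne_zero_of_finite) (Subgroup.index_dvd_of_le hker)
        have h5 := Subgroup.relIndex_mul_index (show (⨅ W ∈ (Finset.univ : Finset (orbit A T)),
          fixingSubgroup A (W : Set Ω)) ⊓ N ≤ N from inf_le_right)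
        rw [Subgroup.inf_relIndex_right] at h5
        refine h4.trans (h5 ▸ (Nat.mul_le_mul h3 hN).trans (le_of_eq ?_))
        rw [← pow_mul, ← pow_add]
        congr 1
        rw [← hmul, Nat.sub_mul, one_mul]
        have : b ≤ T.ncard * b := Nat.le_mul_of_pos_left _ (by omega)
        omega
    · obtain ⟨O, hO⟩ : ∃ O, O = orbit A ω := ⟨_, rfl⟩
      have hOinv : ∀ h ∈ (⊤ : Subgroup A), ∀ x ∈ O, h • x ∈ O := fun h _ x hx => by
        rw [hO] at hx ⊢
        exact mem_orbit_of_mem_orbit h hx
      have hOcinv : ∀ h ∈ (⊤ : Subgroup A), ∀ x ∈ Oᶜ, h • x ∈ Oᶜ := fun h _ x hx hx' => hx (by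
        rw [hO] at hx' ⊢
        simpa using mem_orbit_of_mem_orbit h⁻¹ hx')
      have hOc : (Oᶜ : Set Ω).Nonempty := by
        by_contra hne
        rw [Set.not_nonempty_iff_eq_empty, Set.compl_empty_iff, hO] at hne
        exact htr (isPretransitive_iff_orbit_eq_univ ω |>.2 hne)
      have hOne : O.Nonempty := hO ▸ ⟨ω, mem_orbit_self ω⟩
      have hsum : Nat.card O + Nat.card (Oᶜ : Set Ω) = Nat.card Ω := by
        rw [Nat.card_coe_set_eq, Nat.card_coe_set_eq]
        exact Set.ncard_add_ncard_compl O
      have ha : 1 ≤ Nat.card O := by rw [Nat.card_coe_set_eq]; exact hOne.ncard_pos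
      have hb : 1 ≤ Nat.card (Oᶜ : Set Ω) := by rw [Nat.card_coe_set_eq]; exact hOc.ncard_pos
      have h2 := index_fixing_le ih hA ⊤ O hOinv hOne (by omega)
      have h3 := index_fixing_le ih hA ⊤ Oᶜ hOcinv hOc (by omega)
      rw [Subgroup.relIndex_top_right] at h2 h3
      have hker : fixingSubgroup A O ⊓ fixingSubgroup A (Oᶜ : Set Ω) ≤ (toPermHom A Ω).ker := by
        intro g hg
        refine Equiv.Perm.ext fun x => ?_
        by_cases hx : x ∈ O
        · exact (mem_fixingSubgroup_iff _).1 hg.1 x hx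
        · exact (mem_fixingSubgroup_iff _).1 hg.2 x hx
      refine (Nat.le_of_dvd (Nat.pos_of_ne_zero Subgroup.index_ne_zero_of_finite)
        (Subgroup.index_dvd_of_le hker)).trans ((Subgroup.index_inf_le).trans ?_)
      refine (Nat.mul_le_mul h2 h3).trans ?_
      rw [← pow_add]
      exact Nat.pow_le_pow_right (by norm_num) (by omega)

/-- A solvable permutation group of degree `n` has order at most `3 ^ (n - 1)`. -/
theorem index_ker_le_three_pow (A : Type u) (Ω : Type v) [Group A] [Finite A] [MulAction A Ω]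
    [Finite Ω] [Nonempty Ω] (hA : Group.IsSolvable A) :
    (MulAction.toPermHom A Ω).ker.index ≤ 3 ^ (Nat.card Ω - 1) :=
  permBelow_all _ A Ω hA Nat.card_pos le_rfl

end Cfsg.Agent.Solv.C49
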