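import Cfsg.Agent.Lib.Solv.OddPair.Blocks
import Cfsg.Agent.Lib.Solv.ClassFortyNine.Count
import Cfsg.Agent.Lib.Solv.ClassFortyNine.Arith
import Cfsg.Agent.Lib.Solv.ClassFortyNine.PermBound
import Cfsg.Agent.Lib.Solv.ClassFortyNine.Few

/-!
Systems of blocks of an irreducible module and the bound for imprimitive groups.
-/

set_option autoImplicit false
set_option linter.unusedSectionVars false
set_option linter.style.haveILetI false
set_option maxHeartbeats 800000

namespace Cfsg.Agent.Solv.C49

open scoped Pointwise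
open Cfsg.Agent.Solv.OddPair (kerV mem_kerV subAct quotAct quot_faithful)

universe u v

/-- An orbit of subgroups with projections. -/
structure Sys (A : Type u) (V : Type v) [Group A] [AddCommGroup V] [DistribMulAction A V] where
  W0 : AddSubgroup V
  e : AddSubgroup V → AddMonoid.End V
  ne : W0 ≠ ⊥
  one : ∀ W ∈ MulAction.orbit A W0, ∀ x ∈ W, e W x = x
  zero : ∀ W ∈ MulAction.orbit A W0, ∀ W' ∈ MulAction.orbit A W0, W' ≠ W → ∀ x ∈ W', e W x = 0
  moves : ∃ a : A, a • W0 ≠ W0

variable {A : Type u} {V : Type v} [Group A] [Finite A] [AddCommGroup V] [Finite V]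
  [DistribMulAction A V]

/-- Irreducibility. -/
def Irred (A : Type u) (V : Type v) [Group A] [AddCommGroup V] [DistribMulAction A V] : Prop :=
  ∀ U : AddSubgroup V, (∀ a : A, ∀ x ∈ U, a • x ∈ U) → U = ⊥ ∨ U = ⊤

/-- Orbit number. -/
noncomputable abbrev orbN (A : Type u) (V : Type v) [Group A] [AddCommGroup V]
    [DistribMulAction A V] : ℕ :=
  Nat.card (MulAction.orbitRel.Quotient A V)

/-- Class number. -/
noncomputable abbrev clN (A : Type u) [Group A] : ℕ := Nat.card (ConjClasses A)

theorem mem_stab_W0 (s : Sys A V) {a : A} (ha : a ∈ MulAction.stabilizer A s.W0) {x : V}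
    (hx : x ∈ s.W0) : a • x ∈ s.W0 := by
  have h := AddSubgroup.smul_mem_pointwise_smul x a s.W0 hx
  rwa [MulAction.mem_stabilizer_iff.1 ha] at h

theorem card_smul (a : A) (W : AddSubgroup V) :
    Nat.card (a • W : AddSubgroup V) = Nat.card W := by
  show Nat.card ((a • W : AddSubgroup V) : Set V) = Nat.card (W : Set V)
  rw [AddSubgroup.coe_pointwise_smul]
  exact Nat.card_image_of_injective (MulAction.injective a) _

theorem iSup_eq_top (hirr : Irred A V) (s : Sys A V) :
    (⨆ W : MulAction.orbit A s.W0, (W : AddSubgroup V)) = ⊤ := by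
  refine (hirr _ fun a x hx => ?_).resolve_left fun h => s.ne (le_bot_iff.1
    (h ▸ le_iSup (fun W : MulAction.orbit A s.W0 => (W : AddSubgroup V)) ⟨s.W0, MulAction.mem_orbit_self _⟩))
  induction hx using AddSubgroup.iSup_induction' with
  | hp W y hy =>
    exact AddSubgroup.mem_iSup_of_mem ⟨a • (W : AddSubgroup V), MulAction.mem_orbit_of_mem_orbit a W.2⟩
      (AddSubgroup.smul_mem_pointwise_smul y a _ hy)
  | h1 => rw [smul_zero]; exact zero_mem _
  | hadd x y _ _ hx hy => rw [smul_add]; exact add_mem hx hy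

/-- Two additive maps agreeing on every block agree. -/
theorem ext_blocks (hirr : Irred A V) (s : Sys A V) (f g : V →+ V)
    (h : ∀ W ∈ MulAction.orbit A s.W0, ∀ x ∈ W, f x = g x) (v : V) : f v = g v := by
  have hv : v ∈ ⨆ W : MulAction.orbit A s.W0, (W : AddSubgroup V) :=
    iSup_eq_top hirr s ▸ AddSubgroup.mem_top v
  induction hv using AddSubgroup.iSup_induction' with
  | hp W y hy => exact h W W.2 y hy
  | h1 => rw [map_zero, map_zero]
  | hadd x y _ _ hx hy => rw [map_add, map_add, hx, hy]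

theorem e_mem (hirr : Irred A V) (s : Sys A V) {W : AddSubgroup V}
    (hW : W ∈ MulAction.orbit A s.W0) (v : V) : s.e W v ∈ W := by
  have hv : v ∈ ⨆ W : MulAction.orbit A s.W0, (W : AddSubgroup V) :=
    iSup_eq_top hirr s ▸ AddSubgroup.mem_top v
  induction hv using AddSubgroup.iSup_induction' with
  | hp W' y hy =>
    by_cases h : (W' : AddSubgroup V) = W
    · rw [s.one W hW y (h ▸ hy)]; exact h ▸ hy
    · rw [s.zero W hW W' W'.2 h y hy]; exact zero_mem _
  | h1 => rw [map_zero]; exact zero_mem _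
  | hadd x y _ _ hx hy => rw [map_add]; exact add_mem hx hy

theorem e_sum (hirr : Irred A V) (s : Sys A V) [Fintype (MulAction.orbit A s.W0)] (v : V) :
    ∑ W : MulAction.orbit A s.W0, s.e W v = v := by
  refine ext_blocks hirr s
    { toFun := fun x => ∑ W : MulAction.orbit A s.W0, s.e W x
      map_zero' := Finset.sum_eq_zero fun W _ => map_zero _
      map_add' := fun x y => by rw [← Finset.sum_add_distrib]; exact Finset.sum_congr rfl fun W _ => map_add _ x y }
    (AddMonoidHom.id V) (fun W hW x hx => ?_) v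
  show ∑ W' : MulAction.orbit A s.W0, s.e W' x = x
  rw [Finset.sum_eq_single ⟨W, hW⟩]
  · exact s.one W hW x hx
  · exact fun W' _ hne => s.zero W' W'.2 W hW (fun e => hne (Subtype.ext e.symm)) x hx
  · exact fun h => absurd (Finset.mem_univ _) h

theorem e_smul (hirr : Irred A V) (s : Sys A V) {W : AddSubgroup V}
    (hW : W ∈ MulAction.orbit A s.W0) (a : A) (v : V) : s.e (a • W) (a • v) = a • s.e W v := by
  refine ext_blocks hirr s ((s.e (a • W) : V →+ V).comp (DistribSMul.toAddMonoidHom V a))
    ((DistribSMul.toAddMonoidHom V a).comp (s.e W : V →+ V)) (fun W' hW' x hx => ?_) v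
  show s.e (a • W) (a • x) = a • s.e W x
  by_cases h : W' = W
  · subst h
    rw [s.one W' hW x hx, s.one _ (MulAction.mem_orbit_of_mem_orbit a hW) _
      (AddSubgroup.smul_mem_pointwise_smul x a _ hx)]
  · rw [s.zero W hW W' hW' h x hx, smul_zero]
    exact s.zero _ (MulAction.mem_orbit_of_mem_orbit a hW) _ (MulAction.mem_orbit_of_mem_orbit a hW')
      (fun e => h (smul_left_cancel a e)) _ (AddSubgroup.smul_mem_pointwise_smul x a _ hx)

theorem e_sum_single (hirr : Irred A V) (s : Sys A V) [Fintype (MulAction.orbit A s.W0)]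
    (f : MulAction.orbit A s.W0 → V) (hf : ∀ W : MulAction.orbit A s.W0, f W ∈ (W : AddSubgroup V))
    (W : MulAction.orbit A s.W0) : s.e W (∑ W', f W') = f W := by
  rw [map_sum, Finset.sum_eq_single W]
  · exact s.one W W.2 _ (hf W)
  · exact fun W' _ hne => s.zero W W.2 W' W'.2 (fun e => hne (Subtype.ext e)) _ (hf W')
  · exact fun h => absurd (Finset.mem_univ _) h

/-- The module is the product of the blocks. -/
theorem card_eq_pow (hirr : Irred A V) (s : Sys A V) :
    Nat.card V = Nat.card s.W0 ^ Nat.card (MulAction.orbit A s.W0) := by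
  haveI : Fintype (MulAction.orbit A s.W0) := Fintype.ofFinite _
  have e : V ≃ ((W : MulAction.orbit A s.W0) → (W : AddSubgroup V)) :=
    { toFun := fun v W => ⟨s.e W v, e_mem hirr s W.2 v⟩
      invFun := fun f => ∑ W, (f W : V)
      left_inv := fun v => e_sum hirr s v
      right_inv := fun f => funext fun W => Subtype.ext (e_sum_single hirr s (fun W' => (f W' : V)) (fun W' => (f W').2) W) }
  rw [Nat.card_congr e, Nat.card_pi, Finset.prod_congr rfl (g := fun _ => Nat.card s.W0) fun W _ => by
    obtain ⟨a, ha⟩ := W.2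
    rw [← ha]
    exact card_smul a s.W0,
    Finset.prod_const, Finset.card_univ, ← Nat.card_eq_fintype_card]

/-- The stabiliser of a block acts irreducibly on it. -/
theorem irred_block (hirr : Irred A V) (s : Sys A V) :
    letI := subAct (A := MulAction.stabilizer A s.W0) s.W0 fun b _ hx => mem_stab_W0 s b.2 hx
    Irred (MulAction.stabilizer A s.W0) s.W0 := by
  letI := subAct (A := MulAction.stabilizer A s.W0) s.W0 fun b _ hx => mem_stab_W0 s b.2 hx
  intro U hU
  by_cases hU0 : U = ⊥
  · exact Or.inl hU0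
  right
  let T : AddSubgroup V := ⨆ a : A, a • U.map s.W0.subtype
  have hT : T = ⊤ := by
    refine (hirr T fun a x hx => ?_).resolve_left fun h => hU0 ?_
    · induction hx using AddSubgroup.iSup_induction' with
      | hp c y hy =>
        refine AddSubgroup.mem_iSup_of_mem (a * c) ?_
        rw [mul_smul]
        exact AddSubgroup.smul_mem_pointwise_smul y a _ hy
      | h1 => rw [smul_zero]; exact zero_mem _
      | hadd x y _ _ hx hy => rw [smul_add]; exact add_mem hx hy
    · have h1 : U.map s.W0.subtype ≤ T := le_iSup_of_le 1 (by rw [one_smul])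
      rw [h] at h1
      exact (AddSubgroup.map_eq_bot_iff_of_injective U Subtype.val_injective).1 (le_bot_iff.1 h1)
  refine eq_top_iff.2 fun w _ => ?_
  have hw : (w : V) ∈ T := hT ▸ AddSubgroup.mem_top _
  have key : ∀ v ∈ T, s.e s.W0 v ∈ U.map s.W0.subtype := by
    intro v hv
    induction hv using AddSubgroup.iSup_induction' with
    | hp c y hy =>
      obtain ⟨_, ⟨x, hx, rfl⟩, rfl⟩ := hy
      have hcx : c • (x : V) ∈ c • s.W0 := AddSubgroup.smul_mem_pointwise_smul _ c _ x.2
      by_cases hc : c • s.W0 = s.W0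
      · exact ⟨(⟨c, hc⟩ : MulAction.stabilizer A s.W0) • x, hU _ x hx,
          (s.one s.W0 (MulAction.mem_orbit_self _) _ ((congrArg (fun S : AddSubgroup V => c • (x : V) ∈ S) hc).mp hcx)).symm⟩
      · show s.e s.W0 (c • (x : V)) ∈ _
        rw [s.zero s.W0 (MulAction.mem_orbit_self _) _ (MulAction.mem_orbit _ c) hc _ hcx]
        exact zero_mem _
    | h1 => rw [map_zero]; exact zero_mem _
    | hadd x y _ _ hx hy => rw [map_add]; exact add_mem hx hy
  obtain ⟨x, hx, hxw⟩ := key w hw
  rw [s.one s.W0 (MulAction.mem_orbit_self _) _ w.2] at hxw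
  rwa [← Subtype.ext hxw]

/-- Orbits of the whole group against multisets of orbits on one block. -/
theorem choose_le_orbits (hirr : Irred A V) (s : Sys A V) :
    letI := subAct (A := MulAction.stabilizer A s.W0) s.W0 fun b _ hx => mem_stab_W0 s b.2 hx
    Nat.choose (orbN (MulAction.stabilizer A s.W0) s.W0 + Nat.card (MulAction.orbit A s.W0) - 1)
      (Nat.card (MulAction.orbit A s.W0)) ≤ orbN A V := by
  classical
  letI := subAct (A := MulAction.stabilizer A s.W0) s.W0 fun b _ hx => mem_stab_W0 s b.2 hx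
  haveI : Fintype (MulAction.orbit A s.W0) := Fintype.ofFinite _
  haveI : Finite (MulAction.orbitRel.Quotient (MulAction.stabilizer A s.W0) s.W0) := Quotient.finite _
  haveI : Fintype (MulAction.orbitRel.Quotient (MulAction.stabilizer A s.W0) s.W0) := Fintype.ofFinite _
  haveI : Finite (MulAction.orbitRel.Quotient A V) := Quotient.finite _
  have hex : ∀ W : MulAction.orbit A s.W0, ∃ a : A, a • s.W0 = W := fun W => W.2
  choose a ha using hex
  have hback : ∀ (W : MulAction.orbit A s.W0) (x : V), x ∈ (W : AddSubgroup V) → (a W)⁻¹ • x ∈ s.W0 := by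
    intro W x hx
    have h := AddSubgroup.smul_mem_pointwise_smul x (a W)⁻¹ _ hx
    rwa [← ha W, inv_smul_smul] at h
  let lab : (W : MulAction.orbit A s.W0) → V →
      MulAction.orbitRel.Quotient (MulAction.stabilizer A s.W0) s.W0 := fun W v =>
    Quotient.mk'' (⟨(a W)⁻¹ • s.e W v, hback W _ (e_mem hirr s W.2 v)⟩ : s.W0)
  let F : V → Sym (MulAction.orbitRel.Quotient (MulAction.stabilizer A s.W0) s.W0)
      (Nat.card (MulAction.orbit A s.W0)) := fun v =>
    ⟨Finset.univ.val.map fun W => lab W v, by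
      rw [Multiset.card_map, Finset.card_val, Finset.card_univ, Nat.card_eq_fintype_card]⟩
  have hinv : ∀ (g : A) (v : V), F (g • v) = F v := by
    intro g v
    refine Subtype.ext ?_
    show Finset.univ.val.map (fun W => lab W (g • v)) = Finset.univ.val.map (fun W => lab W v)
    let σ : MulAction.orbit A s.W0 ≃ MulAction.orbit A s.W0 := MulAction.toPerm g
    have e1 : (Finset.univ : Finset (MulAction.orbit A s.W0)).val.map σ = Finset.univ.val := by
      have := congrArg Finset.val (Finset.map_univ_equiv σ)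
      simpa using this
    conv_lhs => rw [← e1, Multiset.map_map]
    refine Multiset.map_congr rfl fun W _ => ?_
    show lab (g • W) (g • v) = lab W v
    have hb : (a (g • W))⁻¹ * g * a W ∈ MulAction.stabilizer A s.W0 := by
      rw [MulAction.mem_stabilizer_iff, mul_smul, mul_smul, ha W]
      show (a (g • W))⁻¹ • ((g • W : MulAction.orbit A s.W0) : AddSubgroup V) = s.W0
      rw [← ha (g • W), inv_smul_smul]
    refine Quotient.sound' (MulAction.orbitRel_apply.2 ⟨⟨_, hb⟩, Subtype.ext ?_⟩)
    show ((a (g • W))⁻¹ * g * a W) • ((a W)⁻¹ • s.e W v) = (a (g • W))⁻¹ • s.e ((g • W : MulAction.orbit A s.W0) : AddSubgroup V) (g • v)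
    rw [MulAction.orbit.coe_smul, e_smul hirr s W.2 g v, mul_smul, smul_inv_smul, mul_smul]
  let F' : MulAction.orbitRel.Quotient A V →
      Sym (MulAction.orbitRel.Quotient (MulAction.stabilizer A s.W0) s.W0)
        (Nat.card (MulAction.orbit A s.W0)) :=
    Quotient.lift F fun x y h => by
      obtain ⟨g, hg⟩ := MulAction.orbitRel_apply.1 h
      rw [← hg]; exact hinv g y
  have hsurj : Function.Surjective F' := by
    rintro ⟨M, hM⟩
    obtain ⟨l, rfl⟩ := Quot.exists_rep M
    have hl : l.length = Fintype.card (MulAction.orbit A s.W0) := by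
      rw [← Nat.card_eq_fintype_card]; exact hM
    let q : MulAction.orbit A s.W0 → MulAction.orbitRel.Quotient (MulAction.stabilizer A s.W0) s.W0 :=
      fun W => l.get ⟨Fintype.equivFin _ W, by rw [hl]; exact (Fintype.equivFin _ W).2⟩
    let f : MulAction.orbit A s.W0 → V := fun W => a W • ((q W).out : V)
    have hf : ∀ W : MulAction.orbit A s.W0, f W ∈ (W : AddSubgroup V) := fun W =>
      (ha W) ▸ AddSubgroup.smul_mem_pointwise_smul _ (a W) _ (q W).out.2
    refine ⟨Quotient.mk'' (∑ W, f W), Subtype.ext ?_⟩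
    show Finset.univ.val.map (fun W => lab W (∑ W', f W')) = (l : Multiset _)
    have hq : ∀ W, lab W (∑ W', f W') = q W := fun W => by
      refine Eq.trans ?_ (Quotient.out_eq' (q W))
      refine congrArg Quotient.mk'' (Subtype.ext ?_)
      show (a W)⁻¹ • s.e W (∑ W', f W') = _
      rw [e_sum_single hirr s f hf W, inv_smul_smul]
    rw [Multiset.map_congr rfl fun W _ => hq W]
    let e : MulAction.orbit A s.W0 ≃ Fin l.length :=
      (Fintype.equivFin _).trans (finCongr hl.symm)
    have e1 : (Finset.univ : Finset (MulAction.orbit A s.W0)).val.map e = Finset.univ.val := by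
      have := congrArg Finset.val (Finset.map_univ_equiv e)
      simpa using this
    have e2 : Finset.univ.val.map q = ((Finset.univ : Finset (MulAction.orbit A s.W0)).val.map e).map l.get := by
      rw [Multiset.map_map]; rfl
    rw [e2, e1, Fin.univ_val_map, List.ofFn_get]
  have h := Nat.card_le_card_of_surjective F' hsurj
  rwa [Nat.card_eq_fintype_card (α := Sym _ _), Sym.card_sym_eq_choose, ← Nat.card_eq_fintype_card] at h

/-- An abelian subgroup of bounded index gives the bound. -/
theorem rs_semilinear {p i : ℕ} (B : Subgroup A) (hB : ∀ x ∈ B, ∀ y ∈ B, Commute x y)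
    (hi : B.index ≤ i) (harith : 2401 * p ^ 2 * i ^ 2 ≤ 14400 * (Nat.card V - 1)) :
    RS p (clN A) (orbN A V - 1) := by
  have h1 : Nat.card B ≤ clN A * B.index :=
    (card_le_clsIn_mul B hB).trans
      (Nat.mul_le_mul_right _ (Nat.card_le_card_of_injective (fun c : clsIn B => (c : ConjClasses A))
        Subtype.val_injective))
  have h2 : Nat.card V ≤ (orbN A V - 1) * Nat.card A + 1 := card_le_orbits
  have h3 := B.card_mul_index
  have hBpos : 0 < Nat.card B := Nat.card_pos
  have h4 : (Nat.card V - 1) * Nat.card B ≤ clN A * (orbN A V - 1) * (B.index * B.index) * Nat.card B := by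
    have h5 : Nat.card V - 1 ≤ (orbN A V - 1) * (Nat.card B * B.index) := by rw [h3]; omega
    calc (Nat.card V - 1) * Nat.card B
        ≤ (orbN A V - 1) * (Nat.card B * B.index) * (clN A * B.index) := Nat.mul_le_mul h5 h1
      _ = _ := by ring
  have h6 := Nat.le_of_mul_le_mul_right h4 hBpos
  have hpos : 0 < i ^ 2 := by
    have : B.index ≠ 0 := Subgroup.index_ne_zero_of_finite
    have : 0 < i := by omega
    positivity
  refine rs_of_prod (Nat.le_of_mul_le_mul_right (harith.trans ?_) hpos)
  have h7 : B.index * B.index ≤ i ^ 2 := by rw [pow_two]; exact Nat.mul_le_mul hi hi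
  calc 14400 * (Nat.card V - 1) ≤ 14400 * (clN A * (orbN A V - 1) * (B.index * B.index)) :=
        Nat.mul_le_mul_left _ h6
    _ ≤ 14400 * (clN A * (orbN A V - 1) * i ^ 2) :=
        Nat.mul_le_mul_left _ (Nat.mul_le_mul_left _ h7)
    _ = 14400 * (clN A * (orbN A V - 1)) * i ^ 2 := by ring

theorem pow_arith {p m : ℕ} (hp : 11 ≤ p) (hm : 3 ≤ m) :
    2401 * p ^ 2 * (min (Nat.factorial m) (3 ^ (m - 1))) ^ 2 ≤ 14400 * (p ^ m - 1) := by
  obtain ⟨j, rfl⟩ : ∃ j, m = j + 3 := ⟨m - 3, by omega⟩
  have key : 2401 * (min (Nat.factorial (j + 3)) (3 ^ (j + 2))) ^ 2 * 121 ≤ 14000 * 11 ^ (j + 3) := by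
    rcases Nat.lt_or_ge j 2 with hj | hj
    · interval_cases j <;> decide
    · refine le_trans (Nat.mul_le_mul_right _ (Nat.mul_le_mul_left _
        (Nat.pow_le_pow_left (min_le_right _ _) 2))) ?_
      clear hm
      induction j, hj using Nat.le_induction with
      | base => norm_num
      | succ j hj ih =>
        have e1 : (3 ^ (j + 1 + 2)) ^ 2 = 9 * (3 ^ (j + 2)) ^ 2 := by ring
        have e2 : (11 : ℕ) ^ (j + 1 + 3) = 11 * 11 ^ (j + 3) := by ring
        rw [e1, e2]
        nlinarith
  have h1 : 11 ^ (j + 1) ≤ p ^ (j + 1) := Nat.pow_le_pow_left hp _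
  have e3 : p ^ (j + 3) = p ^ (j + 1) * p ^ 2 := by ring
  have e4 : (11 : ℕ) ^ (j + 3) = 11 ^ (j + 1) * 121 := by ring
  rw [e4] at key
  have key' : 2401 * (min (Nat.factorial (j + 3)) (3 ^ (j + 2))) ^ 2 ≤ 14000 * 11 ^ (j + 1) := by
    nlinarith
  have h2 : 14400 ≤ 400 * p ^ (j + 3) := by
    have : 11 ^ 3 ≤ p ^ (j + 3) := (Nat.pow_le_pow_left hp 3).trans (Nat.pow_le_pow_right (by omega) (by omega))
    omega
  have h3 : 2401 * p ^ 2 * (min (Nat.factorial (j + 3)) (3 ^ (j + 2))) ^ 2 ≤ 14000 * p ^ (j + 3) := by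
    rw [e3, show 2401 * p ^ 2 * (min (Nat.factorial (j + 3)) (3 ^ (j + 2))) ^ 2 =
      2401 * (min (Nat.factorial (j + 3)) (3 ^ (j + 2))) ^ 2 * p ^ 2 by ring, ← mul_assoc]
    exact Nat.mul_le_mul_right _ (key'.trans (Nat.mul_le_mul_left _ h1))
  rw [show j + 3 - 1 = j + 2 by omega, Nat.mul_sub, mul_one]
  omega

/-- Imprimitive groups with lines as blocks. -/
theorem sum_bound_lines (hf : ∀ a : A, (∀ x : V, a • x = x) → a = 1) (hsol : Group.IsSolvable A)
    (hirr : Irred A V) {p : ℕ} [Fact p.Prime] (s : Sys A V) (hW : Nat.card s.W0 = p) :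
    49 * p ≤ 60 * (clN A + (orbN A V - 1)) := by
  classical
  have hp := (Fact.out : p.Prime)
  obtain ⟨m, hm⟩ : ∃ m, m = Nat.card (MulAction.orbit A s.W0) := ⟨_, rfl⟩
  have hV : Nat.card V = p ^ m := by rw [card_eq_pow hirr s, hW, hm]
  haveI : Nontrivial (MulAction.orbit A s.W0) := by
    obtain ⟨a, ha⟩ := s.moves
    exact ⟨⟨⟨_, MulAction.mem_orbit _ a⟩, ⟨_, MulAction.mem_orbit_self _⟩,
      fun e => ha (congrArg Subtype.val e)⟩⟩
  have hm2 : 2 ≤ m := hm ▸ (Finite.one_lt_card : 1 < Nat.card (MulAction.orbit A s.W0))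
  let ρ := MulAction.toPermHom A (MulAction.orbit A s.W0)
  have hD : ∀ x ∈ ρ.ker, ∀ y ∈ ρ.ker, Commute x y := by
    intro x hx y hy
    have hfix : ∀ z ∈ ρ.ker, ∀ W ∈ MulAction.orbit A s.W0, ∀ v ∈ W, z • v ∈ W := by
      intro z hz W hW v hv
      have e : z • (⟨W, hW⟩ : MulAction.orbit A s.W0) = ⟨W, hW⟩ := Equiv.Perm.congr_fun hz ⟨W, hW⟩
      have e' : z • W = W := congrArg Subtype.val e
      exact e' ▸ AddSubgroup.smul_mem_pointwise_smul v z W hv
    refine mul_inv_eq_one.1 (hf _ fun v => ?_)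
    rw [mul_smul]
    have key := ext_blocks hirr s (DistribSMul.toAddMonoidHom V (x * y))
      (DistribSMul.toAddMonoidHom V (y * x)) (fun W hW' v hv => ?_)
    · have h1 := key ((y * x)⁻¹ • v)
      simp only [DistribSMul.toAddMonoidHom_apply] at h1
      rw [smul_inv_smul] at h1
      exact h1
    have hWp : Nat.card W = p := by
      obtain ⟨g, hg⟩ := hW'
      rw [← hW, ← hg]
      exact card_smul g s.W0
    show (x * y) • v = (y * x) • v
    by_cases hv0 : v = 0
    · rw [hv0, smul_zero, smul_zero]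
    have hgen : ∀ w ∈ W, ∃ k : ℤ, k • v = w := by
      intro w hw
      have hz := zmultiples_eq_top_of_prime_card (G := W) hWp (g := (⟨v, hv⟩ : W))
        (fun e => hv0 (congrArg Subtype.val e))
      obtain ⟨k, hk⟩ := AddSubgroup.mem_zmultiples_iff.1 (hz ▸ AddSubgroup.mem_top (⟨w, hw⟩ : W))
      exact ⟨k, congrArg Subtype.val hk⟩
    obtain ⟨i, hi⟩ := hgen _ (hfix x hx W hW' v hv)
    obtain ⟨j, hj⟩ := hgen _ (hfix y hy W hW' v hv)
    have e1 : x • j • v = j • x • v := map_zsmul (DistribSMul.toAddMonoidHom V x) j v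
    have e2 : y • i • v = i • y • v := map_zsmul (DistribSMul.toAddMonoidHom V y) i v
    rw [mul_smul, mul_smul, ← hi, ← hj, e1, e2, ← hi, ← hj, smul_smul, smul_smul, mul_comm]
  have hi1 : ρ.ker.index ≤ Nat.factorial m := by
    rw [Subgroup.index_ker, hm, ← Nat.card_perm]
    exact Subgroup.card_le_card_group _
  have hi2 : ρ.ker.index ≤ 3 ^ (m - 1) := hm ▸ index_ker_le_three_pow A _ hsol
  rcases Nat.lt_or_ge m 3 with h3 | h3
  · obtain rfl : m = 2 := by omega
    refine (rs_semilinear (i := 2) ρ.ker hD hi1 ?_).1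
    rw [hV]
    have : 4 ≤ p ^ 2 := by nlinarith [hp.two_le]
    omega
  rcases Nat.lt_or_ge p 11 with hp11 | hp11
  · have hp7 : p ≤ 7 := by
      by_contra h
      interval_cases p <;> norm_num at hp
    have hk : 3 ≤ clN A := by
      by_contra hk
      have h1 := card_le_six (G := A) (show clN A ≤ 3 by omega)
      have h2 : m ∣ Nat.card A := by
        rw [hm, Nat.card_congr (MulAction.orbitEquivQuotientStabilizer A s.W0)]
        exact Subgroup.card_quotient_dvd_card _
      obtain ⟨c0, hc0⟩ := exists_avoiding (G := A) (MulAction.stabilizer A s.W0) (fun e => by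
        obtain ⟨a, ha⟩ := s.moves
        exact ha (MulAction.mem_stabilizer_iff.1 (e ▸ Subgroup.mem_top a)))
      haveI : Finite (ConjClasses A) := Quotient.finite _
      have hc1 : c0 ≠ 1 := fun e => hc0 1 (by rw [e]; simp)
      have hk' : Nat.card (ConjClasses A) ≤ 2 := show clN A ≤ 2 by omega
      have hk2 : Nat.card (ConjClasses A) = 2 := by
        have : ConjClasses.mk c0 ≠ ConjClasses.mk (1 : A) := fun e =>
          hc1 (isConj_one_left.1 (ConjClasses.mk_eq_mk_iff_isConj.1 e))
        haveI : Nontrivial (ConjClasses A) := ⟨⟨_, _, this⟩⟩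
        have := (Finite.one_lt_card : 1 < Nat.card (ConjClasses A))
        omega
      have h5 : Nat.card A ≤ 2 := card_le_two_of_two_classes hk2
      have := Nat.le_of_dvd Nat.card_pos h2
      omega
    have hr : m + 1 ≤ orbN A V := by
      letI := subAct (A := MulAction.stabilizer A s.W0) s.W0 fun b _ hx => mem_stab_W0 s b.2 hx
      haveI : Nontrivial s.W0 := Finite.one_lt_card_iff_nontrivial.1 (hW ▸ hp.one_lt)
      have h1 : 2 ≤ orbN (MulAction.stabilizer A s.W0) s.W0 := two_le_orbits
      have h2 := choose_le_orbits hirr s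
      rw [← hm] at h2
      refine le_trans ?_ h2
      refine le_trans ?_ (Nat.choose_le_choose m (show m + 1 ≤ _ by omega))
      rw [Nat.choose_succ_self_right]
    omega
  · refine (rs_semilinear (i := min (Nat.factorial m) (3 ^ (m - 1))) ρ.ker hD (le_min hi1 hi2) ?_).1
    rw [hV]
    exact pow_arith hp11 h3

/-- Imprimitive groups with larger blocks, given the bound on a block. -/
theorem sum_bound_blocks (hirr : Irred A V) {p : ℕ} (s : Sys A V)
    (h : letI := subAct (A := MulAction.stabilizer A s.W0) s.W0 fun b _ hx => mem_stab_W0 s b.2 hx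
      RS p (clN (MulAction.stabilizer A s.W0)) (orbN (MulAction.stabilizer A s.W0) s.W0 - 1)) :
    49 * p ≤ 60 * (clN A + (orbN A V - 1)) := by
  letI := subAct (A := MulAction.stabilizer A s.W0) s.W0 fun b _ hx => mem_stab_W0 s b.2 hx
  obtain ⟨m, hm⟩ : ∃ m, m = Nat.card (MulAction.orbit A s.W0) := ⟨_, rfl⟩
  have hidx : (MulAction.stabilizer A s.W0).index = m := by
    rw [hm, Subgroup.index_eq_card]
    exact (Nat.card_congr (MulAction.orbitEquivQuotientStabilizer A s.W0)).symm
  have hB : MulAction.stabilizer A s.W0 ≠ ⊤ := fun e => by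
    obtain ⟨a, ha⟩ := s.moves
    exact ha (MulAction.mem_stabilizer_iff.1 (e ▸ Subgroup.mem_top a))
  have hm2 : 2 ≤ m := by
    have h0 : m ≠ 0 := hidx ▸ Subgroup.index_ne_zero_of_finite
    have h1 : m ≠ 1 := fun e => hB (Subgroup.index_eq_one.1 (hidx.trans e))
    omega
  have h1 := classes_sub_add _ hB
  rw [hidx] at h1
  have h2 := choose_le_orbits hirr s
  rw [← hm] at h2
  haveI : Nontrivial s.W0 := (AddSubgroup.nontrivial_iff_ne_bot _).2 s.ne
  have h4 : 2 ≤ orbN (MulAction.stabilizer A s.W0) s.W0 := two_le_orbits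
  haveI : Nontrivial V := (Function.Injective.nontrivial (Subtype.val_injective (p := (· ∈ s.W0))))
  have h5 : 2 ≤ orbN A V := two_le_orbits
  rw [show orbN (MulAction.stabilizer A s.W0) s.W0 + m - 1 =
    orbN (MulAction.stabilizer A s.W0) s.W0 - 1 + m by omega] at h2
  have h3 := h.2 m hm2
  have h6 : m * Nat.choose (orbN (MulAction.stabilizer A s.W0) s.W0 - 1 + m) m ≤ m * orbN A V :=
    Nat.mul_le_mul_left m h2
  obtain ⟨o, ho⟩ : ∃ o, orbN A V = o + 1 := ⟨_, (Nat.sub_add_cancel (by omega)).symm⟩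
  rw [ho] at h6 ⊢
  rw [Nat.add_sub_cancel]
  refine Nat.le_of_mul_le_mul_left ?_ (show 0 < m by omega)
  nlinarith

end Cfsg.Agent.Solv.C49
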