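import Cfsg.Agent.Lib.Solv.ClassFortyNine.Arith

/-!
Inequalities for the primitive case.
-/

set_option autoImplicit false

namespace Cfsg.Agent.Solv.C49

theorem semi_arith {p : ℕ} (hp : 2 ≤ p) : ∀ n, 2 ≤ n →
    2401 * p ^ 2 * n ^ 2 ≤ 14400 * (p ^ n - 1) := by
  have key : ∀ n, 2 ≤ n → 2401 * p ^ 2 * n ^ 2 + 14400 ≤ 14400 * p ^ n := by
    intro n hn
    rcases eq_or_lt_of_le hn with rfl | h3
    · nlinarith
    · induction n, (show 3 ≤ n from h3) using Nat.le_induction with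
      | base => nlinarith [Nat.mul_le_mul_right (p ^ 2) hp]
      | succ m hm ih =>
        have ih' := ih (by omega) (by omega)
        have e1 : (m + 1) ^ 2 ≤ 2 * m ^ 2 := by nlinarith
        have e2 : 2 * p ^ m ≤ p ^ (m + 1) := by rw [pow_succ']; exact Nat.mul_le_mul_right _ hp
        calc 2401 * p ^ 2 * (m + 1) ^ 2 + 14400 ≤ 2401 * p ^ 2 * (2 * m ^ 2) + 2 * 14400 :=
              Nat.add_le_add (Nat.mul_le_mul_left _ e1) (by norm_num)
          _ = 2 * (2401 * p ^ 2 * m ^ 2 + 14400) := by ring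
          _ ≤ 2 * (14400 * p ^ m) := Nat.mul_le_mul_left _ ih'
          _ = 14400 * (2 * p ^ m) := by ring
          _ ≤ 14400 * p ^ (m + 1) := Nat.mul_le_mul_left _ e2
  intro n hn
  have := key n hn
  rw [Nat.mul_sub, mul_one]
  omega

theorem eighth_two : ∀ s, 5 ≤ s → 4 * s ^ 8 ≤ 5 ^ (2 * s - 1) := by
  intro s hs
  induction s, hs using Nat.le_induction with
  | base => norm_num
  | succ m hm ih =>
    rw [show 2 * (m + 1) - 1 = 2 * m - 1 + 2 by omega, pow_add]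
    have h1 : (5 * (m + 1)) ^ 8 ≤ (6 * m) ^ 8 := Nat.pow_le_pow_left (by omega) 8
    rw [mul_pow, mul_pow] at h1
    norm_num at h1 ⊢
    omega

theorem eighth_eleven : ∀ s, 9 ≤ s → s ^ 8 ≤ 5 * 11 ^ (s - 2) := by
  intro s hs
  induction s, hs using Nat.le_induction with
  | base => norm_num
  | succ m hm ih =>
    rw [show m + 1 - 2 = m - 2 + 1 by omega, pow_add]
    have h1 : (9 * (m + 1)) ^ 8 ≤ (10 * m) ^ 8 := Nat.pow_le_pow_left (by omega) 8
    rw [mul_pow, mul_pow] at h1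
    norm_num at h1 ⊢
    omega

theorem field_growth {W b : ℕ} (hb : 2 ≤ b) (h : 4 * W ≤ 5 ^ (2 * b - 1)) :
    ∀ a, 2 ≤ a → a * a * W ≤ 5 ^ (a * b - 1) := by
  intro a ha
  induction a, ha using Nat.le_induction with
  | base => exact h
  | succ m hm ih =>
    have e1 : (m + 1) * (m + 1) ≤ 25 * (m * m) := by nlinarith
    have e2 : 25 ≤ 5 ^ b := (show 5 ^ 2 ≤ 5 ^ b from Nat.pow_le_pow_right (by norm_num) hb)
    have e3 : 2 ≤ m * b := le_trans (by omega) (Nat.mul_le_mul hm hb)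
    rw [show (m + 1) * b - 1 = m * b - 1 + b by rw [Nat.succ_mul]; omega, pow_add]
    calc (m + 1) * (m + 1) * W ≤ 25 * (m * m) * W := Nat.mul_le_mul_right _ e1
      _ = m * m * W * 25 := by ring
      _ ≤ 5 ^ (m * b - 1) * 5 ^ b := Nat.mul_le_mul ih e2

/-- The layer is small against a larger field. -/
theorem good_field {p a s d : ℕ} (hp : 5 ≤ p) (ha : 2 ≤ a) (hs : 2 ≤ s) (hsd : s ≤ d) {W : ℕ}
    (hW : 4 * W ≤ 5 ^ (2 * s - 1)) : a * a * W ≤ 5 * p ^ (a * d - 2) := by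
  have h1 := field_growth hs hW a ha
  have h4 : 4 ≤ a * s := le_trans (by norm_num) (Nat.mul_le_mul ha hs)
  have h2 : a * s ≤ a * d := Nat.mul_le_mul_left a hsd
  calc a * a * W ≤ 5 ^ (a * s - 1) := h1
    _ = 5 * 5 ^ (a * s - 2) := by rw [← pow_succ']; congr 1; omega
    _ ≤ 5 * p ^ (a * d - 2) := Nat.mul_le_mul_left _
      ((Nat.pow_le_pow_left hp _).trans (Nat.pow_le_pow_right (by omega) (by omega)))

/-- The criterion. -/
theorem rs_of_good {p n z k a o N W : ℕ} (hp : 5 ≤ p) (hn : 2 ≤ n) (hz : 0 < z) (hk : z ≤ k * a)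
    (ho : p ^ n - 1 ≤ o * N) (hN : N ≤ a * (z * W)) (hgood : a * a * W ≤ 5 * p ^ (n - 2)) :
    RS p k o := by
  have h1 : z * (p ^ n - 1) ≤ z * (k * o * (a * a * W)) :=
    calc z * (p ^ n - 1) ≤ (k * a) * (o * (a * (z * W))) :=
          Nat.mul_le_mul hk (ho.trans (Nat.mul_le_mul_left o hN))
      _ = z * (k * o * (a * a * W)) := by ring
  have h2 := Nat.le_of_mul_le_mul_left h1 hz
  refine rs_of_prod (Nat.le_of_not_lt fun hlt => ?_)
  have h3 : 14400 * (p ^ n - 1) ≤ 2401 * p ^ 2 * (5 * p ^ (n - 2)) :=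
    calc 14400 * (p ^ n - 1) ≤ 14400 * (k * o * (5 * p ^ (n - 2))) :=
          Nat.mul_le_mul_left _ (h2.trans (Nat.mul_le_mul_left _ hgood))
      _ = 14400 * (k * o) * (5 * p ^ (n - 2)) := (mul_assoc _ _ _).symm
      _ ≤ 2401 * p ^ 2 * (5 * p ^ (n - 2)) := Nat.mul_le_mul_right _ hlt.le
  have e : 2401 * p ^ 2 * (5 * p ^ (n - 2)) = 12005 * p ^ n := by
    rw [show 12005 * p ^ n = 2401 * 5 * (p ^ 2 * p ^ (n - 2)) by rw [← pow_add, show 2 + (n - 2) = n by omega]]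
    ring
  have h4 : 5 ^ 2 ≤ p ^ n := (Nat.pow_le_pow_left hp 2).trans (Nat.pow_le_pow_right (by omega) hn)
  rw [e, Nat.mul_sub] at h3
  omega

end Cfsg.Agent.Solv.C49
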