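import Cfsg.Agent.Lib.Solv.ClassFortyNine.Small
import Cfsg.Agent.Lib.Solv.Triple.Main

/-!
The group acting on the symplectic layer: size and classes.
-/

set_option autoImplicit false
set_option linter.unusedSectionVars false
set_option linter.style.haveILetI false
set_option maxHeartbeats 800000

namespace Cfsg.Agent.Solv.C49

open Cfsg.Agent.Solv.OddPair (kerV mem_kerV quotAct quot_faithful CR Extra MaxAb)

universe u v

/-- The layer as a module. -/
structure TD {A : Type v} [Group A] (Z E : Subgroup A) (T : Type v) [AddCommGroup T]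
    [DistribMulAction A T] where
  θ : E → T
  surj : Function.Surjective θ
  θ_mul : ∀ x y, θ (x * y) = θ x + θ y
  eq_zero : ∀ x, θ x = 0 ↔ (x : A) ∈ Z
  conj : ∀ (g : A) (x : E) (h : g * x * g⁻¹ ∈ E), θ ⟨_, h⟩ = g • θ x
  card : Nat.card T = Z.relIndex E
  cr : CR A T
  ker : kerV A T ⊓ Subgroup.centralizer (Z : Set A) = E

variable {A : Type v} [Group A] [Finite A] {K : Type v} [Field K] {Z E : Subgroup A} [Z.Normal]

/-- The layer module exists. -/
theorem exists_td (hx : Extra Z E) (hmax : MaxAb Z) (ι : Z →* K) (hι : Function.Injective ι) :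
    ∃ (T : Type v) (_ : AddCommGroup T) (_ : Finite T) (_ : DistribMulAction A T),
      Nonempty (TD Z E T) := by
  classical
  haveI := hx.normal
  let π := QuotientGroup.mk' Z
  obtain ⟨T, hT⟩ : ∃ T : Subgroup (A ⧸ Z), T = E.map π := ⟨_, rfl⟩
  haveI hTn : T.Normal := hT ▸ hx.normal.map π (QuotientGroup.mk'_surjective Z)
  have hTcard : Nat.card T = Z.relIndex E := by
    rw [hT, ← Subgroup.relIndex_ker, QuotientGroup.ker_mk']
  have hTE : ∀ g : A, π g ∈ T ↔ g ∈ E := by
    intro g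
    refine ⟨fun h => ?_, fun h => hT ▸ ⟨g, h, rfl⟩⟩
    rw [hT] at h
    obtain ⟨e, he, h⟩ := h
    have h1 : e⁻¹ * g ∈ Z := QuotientGroup.eq.1 h
    simpa using E.mul_mem he (hx.le h1)
  letI : CommGroup T :=
    { (inferInstance : Group T) with
      mul_comm := fun a b => by
        obtain ⟨x, hx0⟩ := QuotientGroup.mk'_surjective Z (a : A ⧸ Z)
        obtain ⟨y, hy0⟩ := QuotientGroup.mk'_surjective Z (b : A ⧸ Z)
        have h1 : π (x * y * x⁻¹ * y⁻¹) = 1 := (QuotientGroup.eq_one_iff _).2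
          (hx.inZ x ((hTE x).1 (hx0 ▸ a.2)) y ((hTE y).1 (hy0 ▸ b.2)))
        rw [map_mul, map_mul, map_mul, map_inv, map_inv, mul_inv_eq_one, mul_inv_eq_iff_eq_mul,
          show π x = (a : A ⧸ Z) from hx0, show π y = (b : A ⧸ Z) from hy0] at h1
        exact Subtype.ext h1 }
  letI : MulDistribMulAction A T :=
    { smul := fun g t => ⟨π g * t * (π g)⁻¹, hTn.conj_mem t t.2 (π g)⟩
      one_smul := fun t => Subtype.ext (show π 1 * t * (π 1)⁻¹ = t by simp)
      mul_smul := fun g h t => Subtype.ext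
        (show π (g * h) * t * (π (g * h))⁻¹ = π g * (π h * t * (π h)⁻¹) * (π g)⁻¹ by
          rw [map_mul]; group)
      smul_mul := fun g s t => Subtype.ext
        (show π g * ((s * t : T) : A ⧸ Z) * (π g)⁻¹ = (π g * s * (π g)⁻¹) * (π g * t * (π g)⁻¹) by
          rw [Subgroup.coe_mul]; group)
      smul_one := fun g => Subtype.ext (show π g * ((1 : T) : A ⧸ Z) * (π g)⁻¹ = 1 by simp) }
  letI : DistribMulAction A (Additive T) :=
    { smul := fun g t => Additive.ofMul (g • Additive.toMul t)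
      one_smul := fun t => congrArg Additive.ofMul (one_smul A (Additive.toMul t))
      mul_smul := fun g h t => congrArg Additive.ofMul (mul_smul g h (Additive.toMul t))
      smul_zero := fun g => congrArg Additive.ofMul (smul_one g)
      smul_add := fun g s t => congrArg Additive.ofMul (smul_mul' g (Additive.toMul s) (Additive.toMul t)) }
  haveI : Finite (Additive T) := (inferInstance : Finite T)
  have hcr : CR A (Additive T) := by
    intro U hU
    let N : Subgroup A :=
      { carrier := {g | ∃ h : π g ∈ T, Additive.ofMul (⟨π g, h⟩ : T) ∈ U}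
        one_mem' := ⟨by rw [map_one]; exact T.one_mem, by
          convert U.zero_mem using 1
          exact congrArg Additive.ofMul (Subtype.ext (map_one π))⟩
        mul_mem' := fun {a b} ⟨ha, ha'⟩ ⟨hb, hb'⟩ => ⟨by rw [map_mul]; exact T.mul_mem ha hb, by
          convert U.add_mem ha' hb' using 1
          exact congrArg Additive.ofMul (Subtype.ext (map_mul π a b))⟩
        inv_mem' := fun {a} ⟨ha, ha'⟩ => ⟨by rw [map_inv]; exact T.inv_mem ha, by
          convert U.neg_mem ha' using 1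
          exact congrArg Additive.ofMul (Subtype.ext (map_inv π a))⟩ }
    haveI : N.Normal := ⟨fun x hxN g => by
      obtain ⟨h, h'⟩ := hxN
      refine ⟨by rw [map_mul, map_mul, map_inv]; exact hTn.conj_mem _ h (π g), ?_⟩
      convert hU g _ h' using 1
      exact congrArg Additive.ofMul (Subtype.ext
        (show π (g * x * g⁻¹) = π g * π x * (π g)⁻¹ by rw [map_mul, map_mul, map_inv]))⟩
    have hNE : N ≤ E := fun g hg => (hTE g).1 hg.1
    have hZN : Z ≤ N := fun z hz => by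
      have h1 : π z = 1 := (QuotientGroup.eq_one_iff z).2 hz
      refine ⟨h1 ▸ T.one_mem, ?_⟩
      convert U.zero_mem using 1
      exact congrArg Additive.ofMul (Subtype.ext h1)
    obtain ⟨R, hR, hZR, hRE, hint, hsup⟩ := hx.complement hmax ι hι hZN hNE
    let Rt : Subgroup T := (R.map π).subgroupOf T
    refine ⟨Subgroup.toAddSubgroup Rt, fun g t ht => ?_, ?_, ?_⟩
    · obtain ⟨r, hr, he⟩ := ht
      exact ⟨g * r * g⁻¹, hR.conj_mem r hr g, show π (g * r * g⁻¹) = _ by
        rw [map_mul, map_mul, map_inv, show π r = _ from he]; rfl⟩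
    · refine (AddSubgroup.eq_bot_iff_forall _).2 fun t ht => ?_
      obtain ⟨ht1, r, hr, he⟩ := ht
      have hrN : r ∈ N := by
        have h2 : Additive.ofMul (⟨π r, (hTE r).2 (hRE hr)⟩ : T) = t :=
          congrArg Additive.ofMul (Subtype.ext he : (⟨π r, (hTE r).2 (hRE hr)⟩ : T) = Additive.toMul t)
        exact ⟨(hTE r).2 (hRE hr), (congrArg (fun z => z ∈ U) h2).mpr ht1⟩
      refine congrArg Additive.ofMul (Subtype.ext ?_ : Additive.toMul t = 1)
      exact he.symm.trans ((QuotientGroup.eq_one_iff r).2 (hint ⟨hrN, hr⟩))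
    · refine eq_top_iff.2 fun t _ => ?_
      obtain ⟨e, he⟩ := QuotientGroup.mk'_surjective Z ((Additive.toMul t : T) : A ⧸ Z)
      have he' : e ∈ ((N ⊔ R : Subgroup A) : Set A) :=
        hsup ((hTE e).1 (he ▸ (Additive.toMul t).2))
      haveI := hR
      rw [Subgroup.mul_normal, Set.mem_mul] at he'
      obtain ⟨a, ha, r, hr, rfl⟩ := he'
      refine AddSubgroup.mem_sup.2 ⟨_, ha.2, Additive.ofMul ⟨π r, (hTE r).2 (hRE hr)⟩, ⟨r, hr, rfl⟩, ?_⟩
      refine congrArg Additive.ofMul (Subtype.ext ?_ : (_ : T) = Additive.toMul t)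
      show π a * π r = _
      rw [← map_mul]; exact he
  obtain ⟨C, hC⟩ : ∃ C, C = Subgroup.centralizer (Z : Set A) := ⟨_, rfl⟩
  have hker : kerV A (Additive T) ⊓ C = E := by
    refine le_antisymm (fun c hc => hx.outside c (hC ▸ hc.2) fun e he => ?_) (le_inf (fun c hc t => ?_) (hC ▸ hx.le_centralizer))
    · have h1 : π c * π e * (π c)⁻¹ = π e :=
        congrArg (fun s : Additive T => ((Additive.toMul s : T) : A ⧸ Z))
          (hc.1 (Additive.ofMul ⟨π e, (hTE e).2 he⟩))
      rw [← QuotientGroup.eq_one_iff]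
      show π (c * e * c⁻¹ * e⁻¹) = 1
      rw [map_mul, map_mul, map_mul, map_inv, map_inv, h1, mul_inv_cancel]
    · obtain ⟨e, he⟩ := QuotientGroup.mk'_surjective Z ((Additive.toMul t : T) : A ⧸ Z)
      have h1 : π (c * e * c⁻¹ * e⁻¹) = 1 := (QuotientGroup.eq_one_iff _).2
        (hx.inZ c hc e ((hTE e).1 (he ▸ (Additive.toMul t).2)))
      refine congrArg Additive.ofMul (Subtype.ext ?_ : c • Additive.toMul t = Additive.toMul t)
      show π c * _ * (π c)⁻¹ = _
      rw [← he]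
      rw [map_mul, map_mul, map_mul, map_inv, map_inv, mul_inv_eq_one] at h1
      exact h1
  exact ⟨Additive T, inferInstance, inferInstance, inferInstance,
    ⟨{ θ := fun x => Additive.ofMul ⟨π x, (hTE x).2 x.2⟩
       surj := fun t => by
         obtain ⟨e, he⟩ := QuotientGroup.mk'_surjective Z ((Additive.toMul t : T) : A ⧸ Z)
         exact ⟨⟨e, (hTE e).1 (he ▸ (Additive.toMul t).2)⟩, congrArg Additive.ofMul (Subtype.ext he)⟩
       θ_mul := fun x y => congrArg Additive.ofMul (Subtype.ext (map_mul π (x : A) y))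
       eq_zero := fun x => ⟨fun h => (QuotientGroup.eq_one_iff (x : A)).1 (congrArg Subtype.val
           (congrArg Additive.toMul h : (⟨π x, (hTE x).2 x.2⟩ : T) = 1)),
         fun h => congrArg Additive.ofMul (Subtype.ext ((QuotientGroup.eq_one_iff (x : A)).2 h)
           : (⟨π x, (hTE x).2 x.2⟩ : T) = 1)⟩
       conj := fun g x h => congrArg Additive.ofMul (Subtype.ext
         (show π (g * x * g⁻¹) = π g * π x * (π g)⁻¹ by rw [map_mul, map_mul, map_inv]))
       card := hTcard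
       cr := hcr
       ker := hC ▸ hker }⟩⟩

namespace TD

variable {T : Type v} [AddCommGroup T] [Finite T] [DistribMulAction A T] (td : TD Z E T)
include td

theorem θ_one : td.θ 1 = 0 := (td.eq_zero 1).2 Z.one_mem

theorem θ_inv (x : E) : td.θ x⁻¹ = -td.θ x := by
  refine eq_neg_of_add_eq_zero_left ?_
  rw [← td.θ_mul, inv_mul_cancel, td.θ_one]

theorem mem_of_eq {x y : E} (h : td.θ x = td.θ y) : (x : A)⁻¹ * y ∈ Z := by
  refine (td.eq_zero (x⁻¹ * y)).1 ?_
  rw [td.θ_mul, td.θ_inv, h, neg_add_cancel]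

theorem smul_of_mem {g : A} (hg : g ∈ E) (t : T) : g • t = t := by
  have h : g ∈ kerV A T ⊓ Subgroup.centralizer (Z : Set A) := td.ker.symm ▸ hg
  exact mem_kerV.1 h.1 t

theorem relIndex_le : E.relIndex (Subgroup.centralizer (Z : Set A)) ≤ (kerV A T).index := by
  rw [← td.ker, Subgroup.inf_relIndex_right]
  exact Nat.le_of_dvd (Nat.pos_of_ne_zero Subgroup.index_ne_zero_of_finite)
    (Subgroup.relIndex_dvd_index_of_normal _ _)

/-- Three vectors give a bound for soluble groups. -/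
theorem relIndex_le_six {s : ℕ} (hsol : Group.IsSolvable A) (hs : Z.relIndex E = s * s) :
    E.relIndex (Subgroup.centralizer (Z : Set A)) ≤ s ^ 6 := by
  obtain ⟨v, hv⟩ := Cfsg.Agent.Solv.Triple.base3_solvable hsol td.cr
  refine td.relIndex_le.trans ((index_kerV_le v (fun _ => ⊤) (fun _ _ => AddSubgroup.mem_top _) hv).trans
    (le_of_eq ?_))
  rw [Nat.card_pi, Finset.prod_const, Finset.card_univ, Fintype.card_fin, AddSubgroup.card_top,
    td.card, hs]
  ring

/-- The four dimensional case in characteristic two. -/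
theorem relIndex_four (hsol : Group.IsSolvable A) (hs : Z.relIndex E = 4 * 4) :
    E.relIndex (Subgroup.centralizer (Z : Set A)) ≤ 72 :=
  td.relIndex_le.trans (two_bound 4 A T hsol td.cr le_rfl (by rw [td.card, hs]; norm_num))

/-- The mixed case of order thirty six. -/
theorem relIndex_thirtysix (hs : Z.relIndex E = 6 * 6) :
    E.relIndex (Subgroup.centralizer (Z : Set A)) ≤ 1296 := by
  have h2 : Nat.card (torPart T 2) = 2 ^ 2 :=
    card_torPart td.cr Nat.prime_two (w := 9) (by rw [td.card, hs]; norm_num) (by norm_num)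
  have h3 : Nat.card (torPart T 3) = 3 ^ 2 :=
    card_torPart td.cr Nat.prime_three (w := 4) (by rw [td.card, hs]; norm_num) (by norm_num)
  obtain ⟨x, hx, y, hy, -, -, hgen2⟩ := exists_pair_gen Nat.prime_two (torPart T 2) h2 fun x h => h
  obtain ⟨u, hu, w, hw, -, -, hgen3⟩ := exists_pair_gen Nat.prime_three (torPart T 3) h3 fun x h => h
  have hsup : torPart T 2 ⊔ torPart T 3 = ⊤ := by
    refine AddSubgroup.eq_top_of_le_card _ ?_
    have a := AddSubgroup.card_dvd_of_le (le_sup_left : torPart T 2 ≤ torPart T 2 ⊔ torPart T 3)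
    have b := AddSubgroup.card_dvd_of_le (le_sup_right : torPart T 3 ≤ torPart T 2 ⊔ torPart T 3)
    rw [h2] at a
    rw [h3] at b
    rw [td.card, hs]
    have c := (show Nat.Coprime (2 ^ 2) (3 ^ 2) by norm_num).mul_dvd_of_dvd_of_dvd a b
    exact (show 6 * 6 = 2 ^ 2 * 3 ^ 2 by norm_num) ▸ Nat.le_of_dvd Nat.card_pos c
  refine td.relIndex_le.trans ((index_kerV_le ![x, y, u, w]
    ![torPart T 2, torPart T 2, torPart T 3, torPart T 3] (fun i a => ?_) (fun a ha t => ?_)).trans
      (le_of_eq ?_))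
  · fin_cases i
    exacts [torPart_inv 2 a x hx, torPart_inv 2 a y hy, torPart_inv 3 a u hu, torPart_inv 3 a w hw]
  · let F : AddSubgroup T :=
      AddMonoidHom.eqLocus (DistribSMul.toAddMonoidHom T a) (AddMonoidHom.id T)
    exact (hsup ▸ sup_le (hgen2 F (ha 0) (ha 1)) (hgen3 F (ha 2) (ha 3)) : ⊤ ≤ F) (AddSubgroup.mem_top t)
  · rw [Nat.card_pi, Fin.prod_univ_four]
    simp [h2, h3]

/-- The pair bound preserving commutators. -/
theorem relIndex_prime (hx : Extra Z E) {s : ℕ} (hsp : s.Prime) (hs : Z.relIndex E = s * s) :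
    E.relIndex (Subgroup.centralizer (Z : Set A)) ≤ (s * s - 1) * s := by
  classical
  haveI := hx.normal
  have hT : Nat.card T = s * s := by rw [td.card, hs]
  have htor : torPart T s = ⊤ := by
    refine AddSubgroup.eq_top_of_card_eq _ ?_
    rw [card_torPart td.cr hsp (w := 1) (by rw [hT, mul_one, pow_two]) (fun h => hsp.ne_one (Nat.dvd_one.1 h)),
      hT, pow_two]
  obtain ⟨x, -, y, -, hx0, -, hgen⟩ := exists_pair_gen hsp (⊤ : AddSubgroup T)
    (by rw [AddSubgroup.card_top, hT]) fun x _ => (htor ▸ AddSubgroup.mem_top x : x ∈ torPart T s)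
  obtain ⟨e1, he1⟩ := td.surj x
  obtain ⟨e2, he2⟩ := td.surj y
  have hcZ : ∀ z ∈ Z, ∀ m ∈ E, z * m = m * z := fun z hz m hm =>
    Subgroup.mem_centralizer_iff.1 (hx.le_centralizer hm) z hz
  let F : AddSubgroup T :=
    { carrier := {t | ∃ m : E, td.θ m = t ∧ Commute (m : A) e1}
      zero_mem' := ⟨1, td.θ_one, Commute.one_left _⟩
      add_mem' := by
        rintro t t' ⟨m, rfl, hm⟩ ⟨m', rfl, hm'⟩
        exact ⟨m * m', td.θ_mul m m', hm.mul_left hm'⟩
      neg_mem' := by
        rintro t ⟨m, rfl, hm⟩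
        exact ⟨m⁻¹, td.θ_inv m, hm.inv_left⟩ }
  have hFne : F ≠ ⊤ := by
    intro h
    refine hx0 (he1 ▸ (td.eq_zero e1).2 (hx.center_le _ e1.2 fun m hm => ?_))
    obtain ⟨m', hm', hc⟩ := (h ▸ AddSubgroup.mem_top (td.θ ⟨m, hm⟩) : td.θ ⟨m, hm⟩ ∈ F)
    have hz := td.mem_of_eq hm'
    have h2 : Commute ((m' : A) * ((m' : A)⁻¹ * m)) e1 := hc.mul_left (hcZ _ hz e1 e1.2)
    rw [mul_inv_cancel_left] at h2
    exact h2.symm
  have hF : Nat.card F ≤ s := by
    have h1 : Nat.card F ∣ s ^ 2 := by rw [pow_two, ← hT]; exact AddSubgroup.card_addSubgroup_dvd_card F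
    obtain ⟨i, hi, hi'⟩ := (Nat.dvd_prime_pow hsp).1 h1
    have hi2 : i ≠ 2 := fun h => hFne (AddSubgroup.eq_top_of_card_eq _ (by rw [hi', h, hT, pow_two]))
    calc Nat.card F = s ^ i := hi'
      _ ≤ s ^ 1 := Nat.pow_le_pow_right hsp.pos (by omega)
      _ = s := pow_one s
  let C : Subgroup A := Subgroup.centralizer (Z : Set A)
  haveI : Fintype (C ⧸ E.subgroupOf C) := Fintype.ofFinite _
  haveI : Fintype T := Fintype.ofFinite T
  haveI : Fintype F := Fintype.ofFinite F
  have h := Finset.card_le_mul_card_image_of_maps_to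
    (s := (Finset.univ : Finset (C ⧸ E.subgroupOf C))) (t := (Finset.univ : Finset T).erase 0)
    (f := fun q => ((q.out : C) : A) • x)
    (fun q _ => Finset.mem_erase.2 ⟨fun e => hx0 ((smul_eq_zero_iff_eq _).1 e), Finset.mem_univ _⟩) s
    fun u _ => by
      rcases (Finset.univ.filter fun q : C ⧸ E.subgroupOf C => ((q.out : C) : A) • x = u).eq_empty_or_nonempty
        with h0 | ⟨q0, hq0⟩
      · rw [h0]; simp
      rw [Finset.mem_filter] at hq0
      refine (Finset.card_le_card_of_injOn (fun q => ((q0.out⁻¹ * q.out : C) : A) • y - y)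
        (t := Finset.univ.filter (· ∈ F)) ?_ ?_).trans ?_
      · intro q hq
        rw [Finset.mem_coe, Finset.mem_filter] at hq
        refine Finset.mem_coe.2 (Finset.mem_filter.2 ⟨Finset.mem_univ _, ?_⟩)
        obtain ⟨c, hc⟩ : ∃ c : A, c = ((q0.out⁻¹ * q.out : C) : A) := ⟨_, rfl⟩
        have hcC : c ∈ C := hc ▸ (q0.out⁻¹ * q.out).2
        have hcx : c • x = x := by
          rw [hc, Subgroup.coe_mul, Subgroup.coe_inv, mul_smul, hq.2, ← hq0.2, inv_smul_smul]
        show ((q0.out⁻¹ * q.out : C) : A) • y - y ∈ F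
        rw [← hc]
        have hm1 : c * e1 * c⁻¹ ∈ E := hx.normal.conj_mem _ e1.2 c
        have hm2 : c * e2 * c⁻¹ ∈ E := hx.normal.conj_mem _ e2.2 c
        have hz : (e1 : A)⁻¹ * (c * e1 * c⁻¹) ∈ Z :=
          td.mem_of_eq (y := ⟨_, hm1⟩) (by rw [td.conj c e1 hm1, he1, hcx])
        refine ⟨⟨_, hm2⟩ * e2⁻¹, by rw [td.θ_mul, td.θ_inv, td.conj c e2 hm2, he2, sub_eq_add_neg], ?_⟩
        obtain ⟨z, hzd⟩ : ∃ z, z = (e1 : A)⁻¹ * (c * e1 * c⁻¹) := ⟨_, rfl⟩
        obtain ⟨f, hfd⟩ : ∃ f, f = c * e2 * c⁻¹ := ⟨_, rfl⟩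
        have hz' : z ∈ Z := hzd ▸ hz
        have hf : f ∈ E := hfd ▸ hm2
        obtain ⟨w, hwd⟩ : ∃ w, w = (e1 : A) * e2 * (e1 : A)⁻¹ * (e2 : A)⁻¹ := ⟨_, rfl⟩
        have hw : w ∈ Z := hwd ▸ hx.inZ e1 e1.2 e2 e2.2
        have k1 : (e1 : A) * f * (e1 : A)⁻¹ = w * f := by
          have a1 : c * w * c⁻¹ = w := by
            rw [← Subgroup.mem_centralizer_iff.1 hcC w hw, mul_inv_cancel_right]
          have a2 : (e1 : A) * z * f * z⁻¹ * (e1 : A)⁻¹ = (e1 : A) * f * (e1 : A)⁻¹ := by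
            rw [mul_assoc (e1 : A) z f, hcZ z hz' f hf]; group
          have a3 : c * e1 * c⁻¹ = (e1 : A) * z := by rw [hzd, mul_inv_cancel_left]
          calc (e1 : A) * f * (e1 : A)⁻¹ = (c * e1 * c⁻¹) * f * (c * e1 * c⁻¹)⁻¹ := by
                rw [a3, ← a2]; group
            _ = c * w * c⁻¹ * f := by rw [hfd, hwd]; group
            _ = w * f := by rw [a1]
        have k2 : (e1 : A) * e2 * (e1 : A)⁻¹ = w * e2 := by rw [hwd]; group
        show Commute (((⟨_, hm2⟩ : E) : A) * (e2 : A)⁻¹) e1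
        change Commute (c * e2 * c⁻¹ * (e2 : A)⁻¹) e1
        rw [← hfd]
        have k3 : (e1 : A) * (f * (e2 : A)⁻¹) * (e1 : A)⁻¹ = f * (e2 : A)⁻¹ := by
          have a4 : w * f * w⁻¹ = f := by rw [hcZ w hw f hf, mul_inv_cancel_right]
          calc (e1 : A) * (f * (e2 : A)⁻¹) * (e1 : A)⁻¹
              = ((e1 : A) * f * (e1 : A)⁻¹) * ((e1 : A) * e2 * (e1 : A)⁻¹)⁻¹ := by group
            _ = (w * f) * ((e2 : A)⁻¹ * w⁻¹) := by rw [k1, k2, mul_inv_rev]
            _ = (w * f * w⁻¹) * (e2 : A)⁻¹ := by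
              have a5 : w⁻¹ * (e2 : A)⁻¹ = (e2 : A)⁻¹ * w⁻¹ := hcZ _ (inv_mem hw) _ (inv_mem e2.2)
              rw [← a5]; group
            _ = f * (e2 : A)⁻¹ := by rw [a4]
        exact (mul_inv_eq_iff_eq_mul.1 k3).symm
      · intro q hq q' hq' e
        rw [Finset.mem_coe, Finset.mem_filter] at hq hq'
        have ey : ((q.out : C) : A) • y = ((q'.out : C) : A) • y := by
          have h1 := sub_left_inj.1 e
          rw [Subgroup.coe_mul, Subgroup.coe_mul, mul_smul, mul_smul] at h1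
          exact MulAction.injective _ h1
        rw [← QuotientGroup.out_eq' q, ← QuotientGroup.out_eq' q']
        refine QuotientGroup.eq.2 ?_
        show ((q.out⁻¹ * q'.out : C) : A) ∈ E
        have hmem : ((q.out⁻¹ * q'.out : C) : A) ∈ kerV A T ⊓ C := by
          refine ⟨mem_kerV.2 fun t => ?_, (q.out⁻¹ * q'.out).2⟩
          let G : AddSubgroup T := AddMonoidHom.eqLocus
            (DistribSMul.toAddMonoidHom T ((q.out⁻¹ * q'.out : C) : A)) (AddMonoidHom.id T)
          exact hgen G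
            (show ((q.out⁻¹ * q'.out : C) : A) • x = x by
              rw [Subgroup.coe_mul, Subgroup.coe_inv, mul_smul, inv_smul_eq_iff, hq.2, hq'.2])
            (show ((q.out⁻¹ * q'.out : C) : A) • y = y by
              rw [Subgroup.coe_mul, Subgroup.coe_inv, mul_smul, inv_smul_eq_iff, ey])
            (AddSubgroup.mem_top t)
        exact td.ker ▸ hmem
      · rw [← Fintype.card_subtype, ← Nat.card_eq_fintype_card]; exact hF
  rw [Finset.card_univ, Finset.card_erase_of_mem (Finset.mem_univ _), Finset.card_univ,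
    ← Nat.card_eq_fintype_card, ← Nat.card_eq_fintype_card, hT, ← Subgroup.index_eq_card,
    ← Subgroup.relIndex, mul_comm] at h
  exact h

/-- Classes of the quotient by the scalars when these are central. -/
theorem classes_quot (hx : Extra Z E) (hC : Subgroup.centralizer (Z : Set A) = ⊤) {s : ℕ}
    (hs : Z.relIndex E = s * s) :
    (4 ≤ s → 5 ≤ Nat.card (ConjClasses (A ⧸ Z))) ∧ (s = 3 → 4 ≤ Nat.card (ConjClasses (A ⧸ Z)) ∧
      (12 < E.relIndex (Subgroup.centralizer (Z : Set A)) → 5 ≤ Nat.card (ConjClasses (A ⧸ Z)))) := by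
  classical
  haveI := hx.normal
  have hker : kerV A T = E := by
    have h := td.ker
    rwa [hC, inf_top_eq] at h
  letI := quotAct (A := A) (V := T)
  let π := QuotientGroup.mk' Z
  haveI hN : (E.map π).Normal := hx.normal.map π (QuotientGroup.mk'_surjective Z)
  choose pick hpick using td.surj
  have hsame : ∀ {a b : E}, td.θ a = td.θ b → π a = π b := fun h => QuotientGroup.eq.2 (td.mem_of_eq h)
  let φ : A ⧸ Z →* A ⧸ kerV A T := QuotientGroup.lift Z (QuotientGroup.mk' _) fun z hz =>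
    (QuotientGroup.eq_one_iff z).2 (hker.ge (hx.le hz))
  have h1 : Nat.card (MulAction.orbitRel.Quotient (A ⧸ kerV A T) T) ≤ Nat.card (clsIn (E.map π)) := by
    refine orbits_le_clsIn (E.map π) (fun t => π (pick t)) (fun t t' h => ?_)
      (fun t => ⟨_, (pick t).2, rfl⟩) φ fun g t => ?_
    · rw [← hpick t, ← hpick t']
      have hz : (pick t : A)⁻¹ * pick t' ∈ Z := QuotientGroup.eq.1 h
      have h2 := (td.eq_zero ((pick t)⁻¹ * pick t')).2 hz
      rw [td.θ_mul, td.θ_inv, neg_add_eq_zero] at h2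
      exact h2
    · obtain ⟨g, rfl⟩ := QuotientGroup.mk'_surjective Z g
      show π (pick (g • t)) = π g * π (pick t) * (π g)⁻¹
      rw [← map_inv, ← map_mul, ← map_mul]
      refine hsame (b := ⟨_, hx.normal.conj_mem _ (pick t).2 g⟩) ?_
      rw [hpick, td.conj g (pick t), hpick]
  have h2 := classes_quot_add (E.map π)
  have h3 : Nat.card (ConjClasses (A ⧸ E)) ≤ Nat.card (ConjClasses ((A ⧸ Z) ⧸ E.map π)) :=
    Nat.card_le_card_of_surjective _ (ConjClasses.map_surjective
      (f := (QuotientGroup.quotientQuotientEquivQuotient Z E hx.le).toMonoidHom)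
      (QuotientGroup.quotientQuotientEquivQuotient Z E hx.le).surjective)
  obtain ⟨X, hX⟩ : ∃ X, X = E.relIndex (Subgroup.centralizer (Z : Set A)) := ⟨_, rfl⟩
  rw [← hX]
  have hXcard : Nat.card (A ⧸ E) = X := by
    rw [hX, hC, Subgroup.relIndex_top_right, Subgroup.index_eq_card]
  have h4 : s * s ≤ (Nat.card (MulAction.orbitRel.Quotient (A ⧸ kerV A T) T) - 1) * X + 1 := by
    have h5 := card_le_orbits (A := A ⧸ kerV A T) (V := T)
    have h6 : Nat.card (A ⧸ kerV A T) = X := by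
      rw [← Subgroup.index_eq_card, hker, Subgroup.index_eq_card, hXcard]
    rwa [td.card, hs, h6] at h5
  obtain ⟨kY, hkY⟩ : ∃ kY, kY = Nat.card (ConjClasses (A ⧸ E)) := ⟨_, rfl⟩
  obtain ⟨r, hr⟩ : ∃ r, r = Nat.card (MulAction.orbitRel.Quotient (A ⧸ kerV A T) T) := ⟨_, rfl⟩
  rw [← hr] at h1 h4
  rw [← hkY] at h3
  have hmain : kY + r ≤ Nat.card (ConjClasses (A ⧸ Z)) + 1 := by omega
  have hY1 : 1 ≤ kY := by
    haveI : Nonempty (ConjClasses (A ⧸ E)) := ⟨ConjClasses.mk 1⟩
    rw [hkY]; exact Nat.card_pos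
  have hY2 : 2 ≤ X → 2 ≤ kY := by
    intro h
    by_contra hc
    haveI : Subsingleton (ConjClasses (A ⧸ E)) := (Finite.card_le_one_iff_subsingleton).1 (by omega)
    haveI : Nontrivial (A ⧸ E) := Finite.one_lt_card_iff_nontrivial.1 (by omega)
    obtain ⟨g, hg⟩ := exists_ne (1 : A ⧸ E)
    exact hg (isConj_one_left.1 (ConjClasses.mk_eq_mk_iff_isConj.1 (Subsingleton.elim (ConjClasses.mk g) (ConjClasses.mk 1))))
  have hY4 : kY ≤ 3 → X ≤ 6 := fun h => hXcard ▸ card_le_six (G := A ⧸ E) (hkY ▸ h)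
  refine ⟨fun h => ?_, fun h => ?_⟩
  · have h16 : 16 ≤ s * s := Nat.mul_le_mul h h
    rcases Nat.lt_or_ge kY 4 with hk | hk
    · have hX6 := hY4 (by omega)
      have h6 : (r - 1) * X ≤ (r - 1) * 6 := Nat.mul_le_mul_left _ hX6
      rcases Nat.lt_or_ge X 2 with hX2 | hX2
      · have h7 : (r - 1) * X ≤ (r - 1) * 1 := Nat.mul_le_mul_left _ (by omega)
        omega
      · have := hY2 hX2
        omega
    · have : 2 ≤ r := by
        by_contra hc
        rw [show r - 1 = 0 by omega] at h4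
        omega
      omega
  · subst h
    have hr2 : 2 ≤ r := by
      by_contra hc
      rw [show r - 1 = 0 by omega] at h4
      omega
    rcases Nat.lt_or_ge kY 4 with hk | hk
    · have hX6 := hY4 (by omega)
      have h6 : (r - 1) * X ≤ (r - 1) * 6 := Nat.mul_le_mul_left _ hX6
      refine ⟨?_, fun h12 => by omega⟩
      rcases Nat.lt_or_ge X 2 with hX2 | hX2
      · have h7 : (r - 1) * X ≤ (r - 1) * 1 := Nat.mul_le_mul_left _ (by omega)
        omega
      · have := hY2 hX2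
        omega
    · exact ⟨by omega, fun _ => by omega⟩

/-- The elements needed in the case of order four. -/
theorem witnesses (hx : Extra Z E) (hC : Subgroup.centralizer (Z : Set A) = ⊤)
    (hs : Z.relIndex E = 2 * 2) (h4 : 4 ≤ E.relIndex (Subgroup.centralizer (Z : Set A))) :
    ∃ e u w w' : A, (e ∈ E ∧ e ∉ Z) ∧ (u ∉ E ∧ u * u ∉ E) ∧ (w ∉ E ∧ w * w ∈ E ∧ w * w ∉ Z) ∧
      (w' ∉ E ∧ w' * w' ∈ Z) := by
  classical
  haveI := hx.normal
  have hker : kerV A T = E := by
    have h := td.ker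
    rwa [hC, inf_top_eq] at h
  have hT : Nat.card T = 4 := by rw [td.card, hs]
  let P := {t : T // t ≠ 0}
  let σ : A →* Equiv.Perm P :=
    { toFun := fun a =>
        { toFun := fun t => ⟨a • t.1, fun h => t.2 ((smul_eq_zero_iff_eq a).1 h)⟩
          invFun := fun t => ⟨a⁻¹ • t.1, fun h => t.2 ((smul_eq_zero_iff_eq a⁻¹).1 h)⟩
          left_inv := fun t => Subtype.ext (inv_smul_smul a t.1)
          right_inv := fun t => Subtype.ext (smul_inv_smul a t.1) }
      map_one' := Equiv.ext fun t => Subtype.ext (one_smul A t.1)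
      map_mul' := fun a b => Equiv.ext fun t => Subtype.ext (mul_smul a b t.1) }
  have hσ : σ.ker = E := by
    rw [← hker]
    ext a
    refine ⟨fun h t => ?_, fun h => Equiv.ext fun t => Subtype.ext (h t.1)⟩
    by_cases ht : t = 0
    · rw [ht, smul_zero]
    · exact congrArg Subtype.val (Equiv.Perm.congr_fun h (⟨t, ht⟩ : P))
  have h6 : E.index = 6 := by
    have h1 : σ.ker.index ∣ Nat.card (Equiv.Perm P) := by
      rw [Subgroup.index_ker]; exact Subgroup.card_subgroup_dvd_card _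
    haveI : Fintype T := Fintype.ofFinite T
    rw [hσ, Nat.card_perm, Nat.card_eq_fintype_card, Fintype.card_subtype_compl, Fintype.card_subtype_eq,
      ← Nat.card_eq_fintype_card, hT] at h1
    rw [hC, Subgroup.relIndex_top_right] at h4
    have h1' : E.index ∣ 6 := h1
    have h2 := Nat.le_of_dvd (by norm_num) h1'
    obtain ⟨n, hn⟩ : ∃ n, n = E.index := ⟨_, rfl⟩
    rw [← hn] at h1' h2 h4 ⊢
    interval_cases n <;> omega
  have h6' : Nat.card (A ⧸ E) = 6 := by rw [← Subgroup.index_eq_card, h6]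
  haveI := Fact.mk Nat.prime_two
  haveI := Fact.mk Nat.prime_three
  obtain ⟨q3, hq3⟩ := exists_prime_orderOf_dvd_card' (G := A ⧸ E) 3 (by rw [h6']; norm_num)
  obtain ⟨q2, hq2⟩ := exists_prime_orderOf_dvd_card' (G := A ⧸ E) 2 (by rw [h6']; norm_num)
  obtain ⟨u, rfl⟩ := QuotientGroup.mk_surjective q3
  obtain ⟨t, rfl⟩ := QuotientGroup.mk_surjective q2
  have htE : t ∉ E := fun h => by
    rw [(QuotientGroup.eq_one_iff t).2 h, orderOf_one] at hq2
    omega
  have htt : t * t ∈ E := (QuotientGroup.eq_one_iff _).1 (by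
    show ((t * t : A) : A ⧸ E) = 1
    rw [QuotientGroup.mk_mul, ← pow_two, ← hq2, pow_orderOf_eq_one])
  have huE : u ∉ E := fun h => by
    rw [(QuotientGroup.eq_one_iff u).2 h, orderOf_one] at hq3
    omega
  have huu : u * u ∉ E := fun h => by
    have h1 : (u : A ⧸ E) ^ 2 = 1 := by
      rw [pow_two, ← QuotientGroup.mk_mul]; exact (QuotientGroup.eq_one_iff _).2 h
    have h2 := orderOf_dvd_of_pow_eq_one h1
    rw [hq3] at h2
    norm_num at h2
  obtain ⟨e, he, hew⟩ : ∃ e ∈ E, t * e * t⁻¹ * e⁻¹ ∉ Z := by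
    by_contra h
    push Not at h
    exact htE (hx.outside t (hC ▸ Subgroup.mem_top t) h)
  have heZ : e ∉ Z := fun h => hew (by
    exact Z.mul_mem (‹Z.Normal›.conj_mem e h t) (Z.inv_mem h))
  have htwo : ∀ v : T, v + v = 0 := fun v => by
    have h1 : Nat.card (torPart T 2) = 2 ^ 2 := card_torPart td.cr Nat.prime_two (w := 1)
      (by rw [hT]; norm_num) (by norm_num)
    have h2 : torPart T 2 = ⊤ := AddSubgroup.eq_top_of_card_eq _ (by rw [h1, hT]; norm_num)
    rw [← two_nsmul]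
    exact mem_torPart.1 (h2 ▸ AddSubgroup.mem_top v)
  obtain ⟨x, hx'⟩ : ∃ x, x = td.θ ⟨e, he⟩ := ⟨_, rfl⟩
  obtain ⟨b, hb⟩ : ∃ b, b = td.θ ⟨t * t, htt⟩ := ⟨_, rfl⟩
  have hne : t • x ≠ x := fun h => hew (by
    have h1 := td.eq_zero ((⟨t * e * t⁻¹, hx.normal.conj_mem e he t⟩ : E) * ⟨e, he⟩⁻¹)
    rw [td.θ_mul, td.θ_inv, td.conj t ⟨e, he⟩, ← hx', h, add_neg_cancel] at h1
    exact h1.1 rfl)
  let F : AddSubgroup T := AddMonoidHom.eqLocus (DistribSMul.toAddMonoidHom T t) (AddMonoidHom.id T)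
  have htt' : ∀ v : T, t • t • v = v := fun v => by rw [← mul_smul]; exact td.smul_of_mem htt v
  have hwF : t • x + x ∈ F := by
    show t • (t • x + x) = t • x + x
    rw [smul_add, htt', add_comm]
  have hw0 : t • x + x ≠ 0 := fun h => hne (by
    have := eq_neg_of_add_eq_zero_left h
    rw [this]
    exact (eq_neg_of_add_eq_zero_left (htwo x)).symm)
  have hbF : b ∈ F := by
    show t • b = b
    rw [hb, ← td.conj t ⟨t * t, htt⟩ (by rw [show t * (t * t) * t⁻¹ = t * t by group]; exact htt)]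
    congr 1
    exact Subtype.ext (show t * (t * t) * t⁻¹ = t * t by group)
  have hb2 : b = 0 ∨ b = t • x + x := by
    by_contra h
    push Not at h
    have h3 : 2 < Nat.card F := by
      haveI : Fintype F := Fintype.ofFinite F
      rw [Nat.card_eq_fintype_card, Fintype.two_lt_card_iff]
      exact ⟨0, ⟨_, hwF⟩, ⟨b, hbF⟩, fun e => hw0 (congrArg Subtype.val e).symm,
        fun e => h.1 (congrArg Subtype.val e).symm, fun e => h.2 (congrArg Subtype.val e).symm⟩
    have h4 : Nat.card F ∣ 2 ^ 2 := by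
      rw [show (2 : ℕ) ^ 2 = Nat.card T by rw [hT]; norm_num]
      exact AddSubgroup.card_addSubgroup_dvd_card F
    obtain ⟨i, hi, hi'⟩ := (Nat.dvd_prime_pow Nat.prime_two).1 h4
    interval_cases i <;> first | omega | skip
    have h5 : F = ⊤ := AddSubgroup.eq_top_of_card_eq _ (by rw [hi', hT]; norm_num)
    exact hne ((h5 ▸ AddSubgroup.mem_top x : x ∈ F))
  have hte : t * e ∉ E := fun h => htE (by simpa using E.mul_mem h (E.inv_mem he))
  have hconj : t⁻¹ * e * t ∈ E := by simpa using hx.normal.conj_mem e he t⁻¹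
  have hsq : t * e * (t * e) = t * t * (t⁻¹ * e * t) * e := by group
  have hsqE : t * e * (t * e) ∈ E := hsq ▸ E.mul_mem (E.mul_mem htt hconj) he
  have hθ : td.θ ⟨t * e * (t * e), hsqE⟩ = b + (t • x + x) := by
    have h1 : (⟨t * e * (t * e), hsqE⟩ : E) =
        (⟨t * t, htt⟩ : E) * ⟨t⁻¹ * e * t, hconj⟩ * ⟨e, he⟩ := Subtype.ext hsq
    have h2 : td.θ ⟨t⁻¹ * e * t, hconj⟩ = t⁻¹ • x := by
      rw [hx', ← td.conj t⁻¹ ⟨e, he⟩ (by rw [inv_inv]; exact hconj)]
      congr 1
      exact Subtype.ext (by simp)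
    rw [h1, td.θ_mul, td.θ_mul, h2, ← hb, ← hx', add_assoc]
    congr 2
    rw [inv_smul_eq_iff, htt']
  rcases hb2 with hb0 | hb1
  · refine ⟨e, u, t * e, t, ⟨he, heZ⟩, ⟨huE, huu⟩, ⟨hte, hsqE, fun h => hw0 ?_⟩, htE, ?_⟩
    · have := (td.eq_zero ⟨_, hsqE⟩).2 h
      rwa [hθ, hb0, zero_add] at this
    · exact (td.eq_zero ⟨t * t, htt⟩).1 (hb ▸ hb0)
  · refine ⟨e, u, t, t * e, ⟨he, heZ⟩, ⟨huE, huu⟩, ⟨htE, htt, fun h => hw0 ?_⟩, hte, ?_⟩
    · rw [← hb1, hb]
      exact (td.eq_zero ⟨t * t, htt⟩).2 h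
    · exact (td.eq_zero ⟨_, hsqE⟩).1 (by rw [hθ, hb1, htwo])

end TD

end Cfsg.Agent.Solv.C49
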