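import Cfsg.Agent.Lib.Solv.ClassFortyNine.Struct

/-!
Translates of classes by a central subgroup.
-/

set_option autoImplicit false
set_option linter.unusedSectionVars false
set_option linter.style.haveILetI false

namespace Cfsg.Agent.Solv.C49

open Cfsg.Agent.Solv.OddPair (MaxAb)

universe u v

variable {G : Type u} [Group G] [Finite G]

open scoped _root_.Classical in
/-- The classes of the translates of `x`. -/
noncomputable def translates (Z : Subgroup G) [Fintype Z] (x : G) : Finset (ConjClasses G) :=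
  Finset.univ.image fun z : Z => ConjClasses.mk (x * z)

/-- Elements non-conjugate modulo the subgroup have different translates. -/
theorem sum_translates_le (Z : Subgroup G) [Z.Normal] [Fintype Z] {ι : Type*} [Fintype ι] (rep : ι → G)
    (h : Function.Injective fun i => ConjClasses.mk (rep i : G ⧸ Z)) :
    ∑ i, (translates Z (rep i)).card ≤ Nat.card (ConjClasses G) := by
  classical
  haveI : Fintype (ConjClasses G) := Fintype.ofFinite _
  have hdisj : ((Finset.univ : Finset ι) : Set ι).PairwiseDisjoint fun i => translates Z (rep i) := by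
    intro i _ j _ hij
    show Disjoint (translates Z (rep i)) (translates Z (rep j))
    rw [Finset.disjoint_left]
    intro c hi hj
    simp only [translates, Finset.mem_image, Finset.mem_univ, true_and] at hi hj
    obtain ⟨z, rfl⟩ := hi
    obtain ⟨w, hw⟩ := hj
    refine hij (h ?_)
    have h1 := congrArg (ConjClasses.map (QuotientGroup.mk' Z)) hw
    have h2 : ∀ (x : G) (z : Z), ConjClasses.map (QuotientGroup.mk' Z) (ConjClasses.mk (x * z)) =
        ConjClasses.mk (x : G ⧸ Z) := fun x z => by
      show ConjClasses.mk ((x * z : G) : G ⧸ Z) = _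
      rw [QuotientGroup.mk_mul_of_mem x z.2]
    rw [h2, h2] at h1
    exact h1.symm
  rw [← Finset.card_biUnion hdisj, Nat.card_eq_fintype_card]
  exact Finset.card_le_univ _

/-- A lower bound on the translates. -/
theorem le_translates (Z : Subgroup G) [Fintype Z] (hZ : ∀ z ∈ Z, ∀ g : G, g * z = z * g) {x : G}
    {P : Z → Prop} {m : ℕ} (hP : ∀ z : Z, IsConj x (x * z) → P z) (hm : Nat.card {z : Z // P z} ≤ m) :
    Nat.card Z ≤ m * (translates Z x).card := by
  classical
  rw [Nat.card_eq_fintype_card, ← Finset.card_univ]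
  unfold translates
  refine Finset.card_le_mul_card_image _ _ fun c hc => ?_
  simp only [Finset.mem_image, Finset.mem_univ, true_and] at hc
  obtain ⟨z0, rfl⟩ := hc
  refine le_trans ?_ hm
  rw [Nat.card_eq_fintype_card, Fintype.card_subtype]
  refine Finset.card_le_card_of_injOn (fun z => z0⁻¹ * z) ?_ fun a _ b _ e => mul_left_cancel e
  intro z hz
  rw [Finset.mem_coe, Finset.mem_filter] at hz
  refine Finset.mem_coe.2 (Finset.mem_filter.2 ⟨Finset.mem_univ _, hP _ ?_⟩)
  obtain ⟨g, hg⟩ := isConj_iff.1 (ConjClasses.mk_eq_mk_iff_isConj.1 hz.2.symm)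
  refine isConj_iff.2 ⟨g, ?_⟩
  have hc0 : g * x * g⁻¹ * (z0 : G) = x * z := by
    rw [← hg, mul_assoc (g * x), hZ z0 z0.2 g⁻¹]; group
  rw [Subgroup.coe_mul, Subgroup.coe_inv]
  rw [eq_mul_inv_iff_mul_eq.2 hc0, mul_assoc x, hZ ((z0 : G)⁻¹) (Z.inv_mem z0.2) z]

variable {A V : Type v} [Group A] [Finite A] [AddCommGroup V] [Finite V]
  [DistribMulAction A V] {K : Type v} [Field K] [Module K V] {Z : Subgroup A} [Z.Normal]

theorem center_le (hmax : MaxAb Z) (hZc : ∀ x ∈ Z, ∀ y ∈ Z, Commute x y) : Subgroup.center A ≤ Z := by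
  refine le_sup_right.trans (hmax (Z ⊔ Subgroup.center A) inferInstance (fun x hx y hy => ?_) le_sup_left)
  have hx' : x ∈ ((Z ⊔ Subgroup.center A : Subgroup A) : Set A) := hx
  have hy' : y ∈ ((Z ⊔ Subgroup.center A : Subgroup A) : Set A) := hy
  rw [Subgroup.mul_normal, Set.mem_mul] at hx' hy'
  obtain ⟨a, ha, c, hc, rfl⟩ := hx'
  obtain ⟨b, hb, d, hd, rfl⟩ := hy'
  have hcc : ∀ g : A, Commute c g := fun g => (Subgroup.mem_center_iff.1 hc g).symm
  have hdd : ∀ g : A, Commute g d := fun g => Subgroup.mem_center_iff.1 hd g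
  exact ((hZc a ha b hb).mul_right (hdd a)).mul_left ((hcc _))

/-- Translates in a plane. -/
theorem planar_conj (hf : ∀ a : A, (∀ x : V, a • x = x) → a = 1) (hmax : MaxAb Z)
    (hZc : ∀ x ∈ Z, ∀ y ∈ Z, Commute x y) (ι : Z →* K)
    (hιsmul : ∀ (z : Z) (x : V), ι z • x = (z : A) • x)
    (hlin : ∀ (g : A) (k : K) (x : V), g • k • x = k • g • x) (hd : Module.finrank K V = 2)
    {x : A} {z : Z} (h : IsConj x (x * z)) :
    ι z * ι z = 1 ∧ (ι z ≠ 1 → x * x ∈ Z) := by
  classical
  haveI : Module.Finite K V := Module.Finite.of_finite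
  let L : A →* Module.End K V :=
    { toFun := fun g =>
        { toFun := fun v => g • v
          map_add' := fun v w => smul_add g v w
          map_smul' := fun k v => hlin g k v }
      map_one' := LinearMap.ext fun v => one_smul A v
      map_mul' := fun g g' => LinearMap.ext fun v => mul_smul g g' v }
  obtain ⟨g, hg⟩ := isConj_iff.1 h
  have hxz : L (g * x * g⁻¹) = ι z • L x := by
    rw [hg]
    refine LinearMap.ext fun v => ?_
    show (x * z) • v = ι z • x • v
    rw [mul_smul, ← hιsmul, hlin]
  have hgg : L g⁻¹ * L g = 1 := by rw [← map_mul, inv_mul_cancel, map_one]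
  rw [map_mul, map_mul] at hxz
  have hdet : LinearMap.det (L x) ≠ 0 := by
    have h1 : LinearMap.det (L x) * LinearMap.det (L x⁻¹) = 1 := by
      rw [← map_mul, ← map_mul, mul_inv_cancel, map_one, map_one]
    exact left_ne_zero_of_mul_eq_one h1
  constructor
  · have h2 := congrArg LinearMap.det hxz
    rw [LinearMap.det_smul, hd, map_mul, map_mul,
      show LinearMap.det (L g) * LinearMap.det (L x) * LinearMap.det (L g⁻¹) =
        LinearMap.det (L x) * (LinearMap.det (L g⁻¹) * LinearMap.det (L g)) by ring,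
      ← map_mul, hgg, map_one, mul_one] at h2
    rw [← pow_two]
    exact mul_right_cancel₀ hdet (h2.symm.trans (one_mul _).symm)
  · intro hne
    have h3 := congrArg (LinearMap.trace K V) hxz
    rw [LinearMap.trace_mul_comm, ← mul_assoc, hgg, one_mul, map_smul, smul_eq_mul] at h3
    have htr : LinearMap.trace K V (L x) = 0 := by
      by_contra h0
      exact hne (mul_right_cancel₀ h0 (h3.symm.trans (one_mul _).symm))
    let b : Module.Basis (Fin 2) K V := Module.finBasisOfFinrankEq K V hd
    obtain ⟨M, hM⟩ : ∃ M, M = LinearMap.toMatrix b b (L x) := ⟨_, rfl⟩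
    have h11 : M 1 1 = -M 0 0 := by
      rw [LinearMap.trace_eq_matrix_trace K b, ← hM, Matrix.trace_fin_two] at htr
      exact eq_neg_of_add_eq_zero_right htr
    obtain ⟨c, hc⟩ : ∃ c, c = M 0 0 * M 0 0 + M 0 1 * M 1 0 := ⟨_, rfl⟩
    have hsq : L (x * x) = c • (1 : Module.End K V) := by
      refine (LinearMap.toMatrix b b).injective ?_
      rw [map_smul, LinearMap.toMatrix_one, map_mul, LinearMap.toMatrix_mul, ← hM]
      ext i j
      fin_cases i <;> fin_cases j <;>
        simp [Matrix.mul_apply, Fin.sum_univ_two, hc, h11] <;> ring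
    refine center_le hmax hZc (Subgroup.mem_center_iff.2 fun a => (inv_mul_eq_one.1 (hf _ fun v => ?_)).symm)
    have hs : ∀ w : V, (x * x) • w = c • w := fun w => LinearMap.congr_fun hsq w
    rw [mul_smul, inv_smul_eq_iff]
    show (a * (x * x)) • v = ((x * x) * a) • v
    rw [mul_smul a, mul_smul (x * x), hs, hs, hlin]

end Cfsg.Agent.Solv.C49
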