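import Cfsg.Agent.Lib.Solv.ClassFortyNine.Layer
import Cfsg.Agent.Lib.Solv.ClassFortyNine.Growth
import Cfsg.Agent.Lib.Solv.ClassFortyNine.Planar

/-!
The bound for primitive groups.
-/

set_option autoImplicit false
set_option linter.unusedSectionVars false
set_option linter.style.haveILetI false
set_option maxHeartbeats 800000

namespace Cfsg.Agent.Solv.C49

open Cfsg.Agent.Solv.OddPair (imgRing Extra MaxAb exists_extra)

universe u v

variable {A V : Type v} [Group A] [Finite A] [AddCommGroup V] [Finite V] [DistribMulAction A V]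
  {K : Type v} [Field K] [Module K V] {Z E : Subgroup A} [Z.Normal]

/-- Elements in different classes modulo the scalars. -/
theorem rep_injective {ι : Type*} (r : ι → A) (P : ι → A → Prop)
    (hinv : ∀ (i : ι) (x y : A), IsConj (x : A ⧸ Z) (y : A ⧸ Z) → P i x → P i y)
    (hpos : ∀ i, P i (r i)) (hneg : ∀ i j, i ≠ j → P i (r j) → P j (r i) → False) :
    Function.Injective fun i => ConjClasses.mk (r i : A ⧸ Z) := by
  intro i j h
  by_contra hne
  have h1 : IsConj (r i : A ⧸ Z) (r j : A ⧸ Z) := ConjClasses.mk_eq_mk_iff_isConj.1 h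
  exact hneg i j hne (hinv i _ _ h1 (hpos i)) (hinv j _ _ h1.symm (hpos j))

/-- Class numbers in the plane. -/
theorem planar_count [Nontrivial V] (hf : ∀ a : A, (∀ x : V, a • x = x) → a = 1) (hmax : MaxAb Z)
    (hZc : ∀ x ∈ Z, ∀ y ∈ Z, Commute x y) (ι : Z →* K) (hι : Function.Injective ι)
    (hιsmul : ∀ (z : Z) (x : V), ι z • x = (z : A) • x)
    (hlin : ∀ (g : A) (k : K) (x : V), g • k • x = k • g • x) (hd : Module.finrank K V = 2)
    (hC : Subgroup.centralizer (Z : Set A) = ⊤) (hx : Extra Z E) :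
    (4 ≤ Nat.card (ConjClasses (A ⧸ Z)) → 5 * Nat.card Z ≤ 2 * clN A) ∧
      (∀ e u w w' : A, (e ∈ E ∧ e ∉ Z) → (u ∉ E ∧ u * u ∉ E) → (w ∉ E ∧ w * w ∈ E ∧ w * w ∉ Z) →
        (w' ∉ E ∧ w' * w' ∈ Z) → 4 * Nat.card Z ≤ clN A) := by
  classical
  haveI := hx.normal
  haveI : Fintype Z := Fintype.ofFinite _
  have hZ : ∀ z ∈ Z, ∀ g : A, g * z = z * g := fun z hz g =>
    (Subgroup.mem_centralizer_iff.1 (hC ▸ Subgroup.mem_top g) z hz).symm
  have hpl := fun (x : A) (z : Z) (h : IsConj x (x * z)) => planar_conj hf hmax hZc ι hιsmul hlin hd h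
  have hhalf : ∀ x : A, Nat.card Z ≤ 2 * (translates Z x).card := by
    intro x
    refine le_translates Z hZ (P := fun z => ι z * ι z = 1) (fun z h => (hpl x z h).1) ?_
    refine (Nat.card_le_card_of_injective
      (fun z : {z : Z // ι z * ι z = 1} => decide (ι z.1 = 1)) fun a b e => ?_).trans (le_of_eq Nat.card_eq_fintype_card)
    rw [decide_eq_decide] at e
    refine Subtype.ext (hι ?_)
    rcases mul_self_eq_one_iff.1 a.2 with ha | ha <;> rcases mul_self_eq_one_iff.1 b.2 with hb | hb
    · rw [ha, hb]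
    · rw [ha, e.1 ha]
    · rw [hb, e.2 hb]
    · rw [ha, hb]
  have hfull : ∀ x : A, x * x ∉ Z → Nat.card Z ≤ (translates Z x).card := by
    intro x hxx
    have := le_translates Z hZ (P := fun z => z = 1) (x := x) (m := 1) (fun z h => hι (by
      rw [map_one]
      by_contra hne
      exact hxx ((hpl x z h).2 hne))) (le_of_eq Nat.card_unique)
    rwa [one_mul] at this
  have hone : Nat.card Z ≤ (translates Z (1 : A)).card := by
    have := le_translates Z hZ (P := fun z => z = 1) (x := 1) (m := 1) (fun z h => by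
      rw [one_mul] at h
      exact Subtype.ext (isConj_one_right.1 h)) (le_of_eq Nat.card_unique)
    rwa [one_mul] at this
  refine ⟨fun hk => ?_, fun e u w w' he hu hw hw' => ?_⟩
  · haveI : Fintype (ConjClasses (A ⧸ Z)) := Fintype.ofFinite _
    have hex : ∀ c : ConjClasses (A ⧸ Z), ∃ x : A, ConjClasses.mk (x : A ⧸ Z) = c ∧
        (c = ConjClasses.mk 1 → x = 1) := by
      intro c
      by_cases hc : c = ConjClasses.mk 1
      · exact ⟨1, by rw [hc]; rfl, fun _ => rfl⟩
      · obtain ⟨q, rfl⟩ := ConjClasses.exists_rep c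
        obtain ⟨x, rfl⟩ := QuotientGroup.mk_surjective q
        exact ⟨x, rfl, fun h => absurd h hc⟩
    choose rep hrep hrep1 using hex
    have h := sum_translates_le Z rep (fun i j e => by
      have e' : ConjClasses.mk (rep i : A ⧸ Z) = ConjClasses.mk (rep j : A ⧸ Z) := e
      rwa [hrep, hrep] at e')
    have h2 : ∑ c ∈ Finset.univ.erase (ConjClasses.mk (1 : A ⧸ Z)), Nat.card Z ≤
        ∑ c ∈ Finset.univ.erase (ConjClasses.mk (1 : A ⧸ Z)), 2 * (translates Z (rep c)).card :=
      Finset.sum_le_sum fun c _ => hhalf _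
    rw [Finset.sum_const, Finset.card_erase_of_mem (Finset.mem_univ _), Finset.card_univ, smul_eq_mul,
      ← Finset.mul_sum] at h2
    rw [← Finset.add_sum_erase _ _ (Finset.mem_univ (ConjClasses.mk (1 : A ⧸ Z))),
      hrep1 _ rfl] at h
    rw [Nat.card_eq_fintype_card (α := ConjClasses (A ⧸ Z))] at hk
    have h3 : 3 * Nat.card Z ≤ (Fintype.card (ConjClasses (A ⧸ Z)) - 1) * Nat.card Z :=
      Nat.mul_le_mul_right _ (by omega)
    show 5 * Nat.card Z ≤ 2 * Nat.card (ConjClasses A)
    omega
  · let r : Fin 5 → A := ![1, e, u, w, w']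
    let P : Fin 5 → A → Prop := ![fun x => x ∈ Z, fun x => x ∈ E ∧ x ∉ Z,
      fun x => x ∉ E ∧ x * x ∉ E, fun x => x ∉ E ∧ x * x ∈ E ∧ x * x ∉ Z,
      fun x => x ∉ E ∧ x * x ∈ Z]
    have hmemq : ∀ (N : Subgroup A), N.Normal → Z ≤ N → ∀ x y : A, IsConj (x : A ⧸ Z) (y : A ⧸ Z) →
        (x ∈ N ↔ y ∈ N) := by
      intro N hN hle x y h
      obtain ⟨g, hg⟩ := isConj_iff.1 h
      obtain ⟨g, rfl⟩ := QuotientGroup.mk_surjective g
      rw [← QuotientGroup.mk_inv, ← QuotientGroup.mk_mul, ← QuotientGroup.mk_mul] at hg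
      have h1 := hle (QuotientGroup.eq.1 hg)
      constructor
      · intro hx
        have := N.mul_mem (hN.conj_mem x hx g) h1
        rwa [mul_inv_cancel_left] at this
      · intro hy
        have h2 : g * x * g⁻¹ ∈ N := by
          have := N.mul_mem hy (N.inv_mem h1)
          rwa [mul_inv_rev, inv_inv, mul_inv_cancel_left] at this
        have := hN.conj_mem _ h2 g⁻¹
        simpa [mul_assoc] using this
    have hsq : ∀ x y : A, IsConj (x : A ⧸ Z) (y : A ⧸ Z) →
        IsConj ((x * x : A) : A ⧸ Z) ((y * y : A) : A ⧸ Z) := by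
      intro x y h
      obtain ⟨g, hg⟩ := isConj_iff.1 h
      refine isConj_iff.2 ⟨g, ?_⟩
      rw [QuotientGroup.mk_mul, QuotientGroup.mk_mul, ← hg]
      group
    have hinv : ∀ (i : Fin 5) (x y : A), IsConj (x : A ⧸ Z) (y : A ⧸ Z) → P i x → P i y := by
      intro i x y h hP
      have a1 := hmemq E hx.normal hx.le x y h
      have a2 := hmemq Z ‹_› le_rfl x y h
      have a3 := hmemq E hx.normal hx.le _ _ (hsq x y h)
      have a4 := hmemq Z ‹_› le_rfl _ _ (hsq x y h)
      fin_cases i
      · exact a2.1 hP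
      · exact ⟨a1.1 hP.1, fun h' => hP.2 (a2.2 h')⟩
      · exact ⟨fun h' => hP.1 (a1.2 h'), fun h' => hP.2 (a3.2 h')⟩
      · exact ⟨fun h' => hP.1 (a1.2 h'), a3.1 hP.2.1, fun h' => hP.2.2 (a4.2 h')⟩
      · exact ⟨fun h' => hP.1 (a1.2 h'), a4.1 hP.2⟩
    have hpos : ∀ i, P i (r i) := by
      intro i
      fin_cases i
      exacts [Z.one_mem, he, hu, hw, hw']
    have hneg : ∀ i j, i ≠ j → P i (r j) → P j (r i) → False := by
      intro i j hij hi hj
      have hle := @hx.le
      fin_cases i <;> fin_cases j <;>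
        simp only [P, r, Fin.isValue, Matrix.cons_val_zero, Matrix.cons_val_one, Matrix.cons_val,
          Fin.zero_eta, Fin.mk_one, Fin.reduceFinMk] at hi hj <;>
        first | exact absurd rfl hij | tauto
    have h := sum_translates_le Z r (rep_injective r P hinv hpos hneg)
    rw [Fin.sum_univ_five] at h
    have := hfull u (fun h' => hu.2 (hx.le h'))
    have := hfull w hw.2.2
    have := hhalf e
    have := hhalf w'
    show 4 * Nat.card Z ≤ Nat.card (ConjClasses A)
    simp only [r, Matrix.cons_val_zero, Matrix.cons_val_one, Matrix.cons_val] at h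
    omega

omit K Z E in
/-- The bound for primitive groups. -/
theorem rs_primitive {p n : ℕ} [Fact p.Prime] (hV : Nat.card V = p ^ n) (hn : 2 ≤ n)
    (hsol : Group.IsSolvable A) (hf : ∀ a : A, (∀ x : V, a • x = x) → a = 1)
    (hfield : ∀ N : Subgroup A, N.Normal → (∀ x ∈ N, ∀ y ∈ N, Commute x y) →
      ∀ b ∈ imgRing V N, ∀ x : V, x ≠ 0 → b x = 0 → b = 0) :
    RS p (clN A) (orbN A V - 1) := by
  classical
  have hp := (Fact.out : p.Prime)
  haveI : Nontrivial V := Finite.one_lt_card_iff_nontrivial.1 (by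
    rw [hV]; exact Nat.one_lt_pow (by omega) hp.one_lt)
  obtain ⟨Z, hZn, K, _, _, _, ι, a, hZc, hmax, hι, hιsmul, hlin, hK, hidx, hnad⟩ :=
    exists_field hf hfield hV
  haveI := hZn
  have hd0 : 0 < Module.finrank K V := Module.finrank_pos
  have ha : 0 < a := by
    have h1 : (Subgroup.centralizer (Z : Set A)).index ≠ 0 := Subgroup.index_ne_zero_of_finite
    omega
  have han : a ≤ n := hnad ▸ Nat.le_mul_of_pos_right a hd0
  by_cases hCZ : Subgroup.centralizer (Z : Set A) ≤ Z
  · refine rs_semilinear (i := n) (Subgroup.centralizer (Z : Set A))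
      (fun x hx y hy => hZc x (hCZ hx) y (hCZ hy)) (hidx.trans han) ?_
    rw [hV]
    exact semi_arith hp.two_le n hn
  obtain ⟨E, hx, hEZ⟩ := exists_extra hsol hZc hmax ι hι hCZ
  haveI := hx.normal
  obtain ⟨s, hs, hs2, hsd, hdiv⟩ := exists_layer_size ι hι hιsmul hlin hx hEZ
  obtain ⟨T, _, _, _, ⟨td⟩⟩ := exists_td hx hmax ι hι
  have ho : Nat.card V ≤ (orbN A V - 1) * Nat.card A + 1 := card_le_orbits
  have ho1 : 1 ≤ orbN A V - 1 := by
    have : 2 ≤ orbN A V := two_le_orbits
    omega
  rw [hV] at ho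
  have hk2 : 2 ≤ clN A := by
    by_contra hc
    haveI : Subsingleton (ConjClasses A) := Finite.card_le_one_iff_subsingleton.1 (by
      show clN A ≤ 1
      omega)
    refine hEZ fun g hg => ?_
    rw [isConj_one_left.1 (ConjClasses.mk_eq_mk_iff_isConj.1
      (Subsingleton.elim (ConjClasses.mk g) (ConjClasses.mk 1)))]
    exact Z.one_mem
  rcases Nat.lt_or_ge 3 p with hp3 | hp3
  swap
  · exact rs_tiny hp3 hk2 ho1
  have hp5 : 5 ≤ p := by
    by_contra h
    interval_cases p
    norm_num at hp
  have hzq : Nat.card Z ∣ p ^ a - 1 := hK ▸ card_dvd_units (V := V) ι hι hιsmul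
  have hz0 : 0 < Nat.card Z := Nat.card_pos
  have hZC : Z ≤ Subgroup.centralizer (Z : Set A) := fun x h =>
    Subgroup.mem_centralizer_iff.2 fun y hy => (hZc y hy x h).eq
  have hka : Nat.card Z ≤ clN A * a :=
    (card_le_clsIn_mul_of_centralized Z _ fun x h b hb =>
      (Subgroup.mem_centralizer_iff.1 hb x h).symm).trans
      (Nat.mul_le_mul (Nat.card_le_card_of_injective (fun c : clsIn Z => (c : ConjClasses A))
        Subtype.val_injective) hidx)
  obtain ⟨X, hX⟩ : ∃ X, X = E.relIndex (Subgroup.centralizer (Z : Set A)) := ⟨_, rfl⟩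
  obtain ⟨d, hd⟩ : ∃ d, d = Module.finrank K V := ⟨_, rfl⟩
  rw [← hd] at hsd hnad
  have hA : Nat.card A ≤ a * (Nat.card Z * (s * s * X)) := by
    rw [hX, ← hs, Subgroup.relIndex_mul_relIndex Z E _ hx.le hx.le_centralizer,
      ← (Subgroup.centralizer (Z : Set A)).card_mul_index, mul_comm]
    refine Nat.mul_le_mul hidx (le_of_eq ?_)
    rw [← Nat.card_congr (Subgroup.subgroupOfEquivOfLe hZC).toEquiv]
    exact (Subgroup.card_mul_index (Z.subgroupOf _)).symm
  have good : ∀ W, s * s * X ≤ W → a * a * W ≤ 5 * p ^ (n - 2) → RS p (clN A) (orbN A V - 1) :=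
    fun W h1 h2 => rs_of_good hp5 hn hz0 hka (by omega : p ^ n - 1 ≤ (orbN A V - 1) * Nat.card A)
      (hA.trans (Nat.mul_le_mul_left _ (Nat.mul_le_mul_left _ h1))) h2
  have hX6 : X ≤ s ^ 6 := hX ▸ td.relIndex_le_six hsol hs
  have hX8 : s * s * X ≤ s ^ 8 :=
    le_trans (Nat.mul_le_mul_left _ hX6) (le_of_eq (by ring))
  rcases Nat.lt_or_ge 1 a with ha2 | ha1
  · rcases Nat.lt_or_ge s 5 with hs5 | hs5
    · interval_cases s
      · have := hX ▸ td.relIndex_prime hx Nat.prime_two hs
        exact good 24 (by omega) (hnad ▸ good_field hp5 ha2 hs2 hsd (by norm_num))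
      · have := hX ▸ td.relIndex_prime hx Nat.prime_three hs
        exact good 216 (by omega) (hnad ▸ good_field hp5 ha2 hs2 hsd (by norm_num))
      · have := hX ▸ td.relIndex_four hsol hs
        exact good 1152 (by omega) (hnad ▸ good_field hp5 ha2 hs2 hsd (by norm_num))
    · exact good _ hX8 (hnad ▸ good_field hp5 ha2 hs2 hsd (eighth_two s hs5))
  obtain rfl : a = 1 := by omega
  rw [one_mul] at hnad
  subst n
  rw [pow_one] at hzq
  simp only [one_mul] at hA good
  have hC : Subgroup.centralizer (Z : Set A) = ⊤ := by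
    refine Subgroup.index_eq_one.1 ?_
    have h1 : (Subgroup.centralizer (Z : Set A)).index ≠ 0 := Subgroup.index_ne_zero_of_finite
    omega
  have hp1 : 0 < p - 1 := by omega
  have hzp : Nat.card Z < p := by
    have := Nat.le_of_dvd hp1 hzq
    omega
  have hzmod : (p - 1) % Nat.card Z = 0 := Nat.mod_eq_zero_of_dvd hzq
  have hz2 : 2 ≤ Nat.card Z := by
    obtain ⟨l, hl, hls⟩ := Nat.exists_prime_and_dvd (show s ≠ 1 by omega)
    exact hl.two_le.trans (Nat.le_of_dvd hz0 (hdiv l hl hls))
  have hkq : Nat.card (ConjClasses (A ⧸ Z)) + Nat.card Z ≤ clN A + 1 := by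
    have h1 := classes_quot_add Z
    have h2 := card_le_clsIn_mul_of_centralized Z ⊤ fun x h b _ =>
      (Subgroup.mem_centralizer_iff.1 (hC ▸ Subgroup.mem_top b) x h).symm
    rw [Subgroup.index_top, mul_one] at h2
    show _ ≤ Nat.card (ConjClasses A) + 1
    omega
  obtain ⟨hc4, hc3⟩ := td.classes_quot hx hC hs
  rw [← hX] at hc3
  have hoA : p ^ d - 1 ≤ (orbN A V - 1) * (Nat.card Z * (s * s * X)) :=
    le_trans (by omega) (Nat.mul_le_mul_left _ hA)
  have hchk : ∀ W k', s * s * X ≤ W → k' ≤ clN A →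
      chk p k' (oLow (p ^ d - 1) (W * Nat.card Z)) = true → 1 ≤ oLow (p ^ d - 1) (W * Nat.card Z) →
      RS p (clN A) (orbN A V - 1) := fun W k' h1 h2 h3 h4 =>
    rs_of_chk h3 h2 (oLow_le (hoA.trans (Nat.mul_le_mul_left _
      ((Nat.mul_le_mul_left _ h1).trans (le_of_eq (mul_comm _ _)))))) h4
  rcases Nat.lt_or_ge s 4 with hs4 | hs4
  · interval_cases s
    · -- two
      have hzev : 2 ∣ Nat.card Z := hdiv 2 Nat.prime_two dvd_rfl
      have hXle := hX ▸ td.relIndex_prime hx Nat.prime_two hs
      rcases Nat.lt_or_ge d 3 with hd3 | hd3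
      swap
      · refine good 24 (by omega) ?_
        calc 24 ≤ 5 * 5 ^ 1 := by norm_num
          _ ≤ 5 * p ^ (d - 2) := Nat.mul_le_mul_left _
            ((Nat.pow_le_pow_left hp5 1).trans (Nat.pow_le_pow_right (by omega) (by omega)))
      obtain rfl : d = 2 := by omega
      have hlin' : ∀ (g : A) (k : K) (x : V), g • k • x = k • g • x := fun g =>
        hlin g (hC ▸ Subgroup.mem_top g)
      obtain ⟨hk5, hk4⟩ := planar_count hf hmax hZc ι hι hιsmul hlin' hd.symm hC hx
      rcases Nat.lt_or_ge X 4 with hX4 | hX4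
      · have hkq4 : 4 ≤ Nat.card (ConjClasses (A ⧸ Z)) := by
          by_contra hc
          have h1 := card_le_six (G := A ⧸ Z) (by omega)
          rw [← Subgroup.index_eq_card, ← Subgroup.relIndex_top_right, ← hC,
            ← Subgroup.relIndex_mul_relIndex Z E _ hx.le hx.le_centralizer, hs, ← hX] at h1
          have hX1 : X = 1 := by
            have : X ≠ 0 := hX ▸ Subgroup.index_ne_zero_of_finite
            omega
          have hE : ∀ x : A, x ∈ E := fun x => by
            rw [hX, Subgroup.relIndex_eq_one] at hX1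
            exact hX1 (hC ▸ Subgroup.mem_top x)
          have hab : ∀ x y : A ⧸ Z, x * y = y * x := by
            intro x y
            obtain ⟨x, rfl⟩ := QuotientGroup.mk_surjective x
            obtain ⟨y, rfl⟩ := QuotientGroup.mk_surjective y
            rw [← QuotientGroup.mk_mul, ← QuotientGroup.mk_mul, QuotientGroup.eq, mul_inv_rev]
            have h2 := hx.inZ y⁻¹ (E.inv_mem (hE y)) x⁻¹ (E.inv_mem (hE x))
            simpa [mul_assoc] using h2
          have h3 : Nat.card (A ⧸ Z) ≤ Nat.card (ConjClasses (A ⧸ Z)) :=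
            Nat.card_le_card_of_injective ConjClasses.mk fun x y h => by
              obtain ⟨g, hg⟩ := isConj_iff.1 (ConjClasses.mk_eq_mk_iff_isConj.1 h)
              rwa [hab g x, mul_inv_cancel_right] at hg
          rw [← Subgroup.index_eq_card, ← Subgroup.relIndex_top_right, ← hC,
            ← Subgroup.relIndex_mul_relIndex Z E _ hx.le hx.le_centralizer, hs, ← hX, hX1] at h3
          omega
        have h5 := hk5 hkq4
        have h6 : p ^ 2 - 1 ≤ (orbN A V - 1) * (Nat.card Z * 12) :=
          hoA.trans (Nat.mul_le_mul_left _ (Nat.mul_le_mul_left _ (by omega)))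
        have h7 : Nat.card Z * (5 * (p ^ 2 - 1)) ≤
            Nat.card Z * (24 * (clN A * (orbN A V - 1))) :=
          calc Nat.card Z * (5 * (p ^ 2 - 1)) = 5 * Nat.card Z * (p ^ 2 - 1) := by ring
            _ ≤ 2 * clN A * ((orbN A V - 1) * (Nat.card Z * 12)) := Nat.mul_le_mul h5 h6
            _ = _ := by ring
        have h8 := Nat.le_of_mul_le_mul_left h7 hz0
        refine rs_of_prod ?_
        have : 25 ≤ p ^ 2 := Nat.pow_le_pow_left hp5 2
        omega
      · obtain ⟨e, u, w, w', he, hu, hw, hw'⟩ := td.witnesses hx hC hs (hX ▸ hX4)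
        refine rs_twentyfour hp hp5 hzq hzev (hk4 e u w w' he hu hw hw')
          (hoA.trans (Nat.mul_le_mul_left _ ?_))
        rw [mul_comm 24]
        exact Nat.mul_le_mul_left _ (by omega)
    · -- three
      have hz3 : 3 ∣ Nat.card Z := hdiv 3 Nat.prime_three dvd_rfl
      have hXle := hX ▸ td.relIndex_prime hx Nat.prime_three hs
      have hp7 : 7 ≤ p := by
        have h3 := hz3.trans hzq
        by_contra h
        interval_cases p <;> simp_all (config := {decide := true})
      rcases Nat.lt_or_ge d 4 with hd4 | hd4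
      swap
      · refine good 216 (by omega) ?_
        calc 216 ≤ 5 * 7 ^ 2 := by norm_num
          _ ≤ 5 * p ^ (d - 2) := Nat.mul_le_mul_left _
            ((Nat.pow_le_pow_left hp7 2).trans (Nat.pow_le_pow_right (by omega) (by omega)))
      obtain rfl : d = 3 := by omega
      rcases Nat.lt_or_ge p 44 with hp44 | hp44
      swap
      · exact good 216 (by omega) (le_trans (by norm_num) (Nat.mul_le_mul_left _
          (le_trans hp44 (le_of_eq (pow_one p).symm))))
      obtain ⟨hk4, hk5⟩ := hc3 rfl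
      rcases Nat.lt_or_ge 12 X with h12 | h12
      · have hk := hk5 h12
        by_cases hex : p = 13 ∧ Nat.card Z = 12
        · obtain ⟨rfl, hz12⟩ := hex
          refine rs_of_chk thirteen_twelve (by omega) ?_ (by norm_num)
          by_contra ho2
          have h1 := dvd_of_transitive (A := A) (V := V) (show orbN A V = 2 by omega)
          rw [hV, ← (Subgroup.centralizer (Z : Set A)).card_mul_index, hC, Subgroup.index_top, mul_one,
            Subgroup.card_top] at h1
          have h2 : Nat.card A = 108 * X := by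
            rw [hX, show 108 = Nat.card Z * Z.relIndex E by rw [hz12, hs], mul_assoc,
              Subgroup.relIndex_mul_relIndex Z E _ hx.le hx.le_centralizer, hC,
              Subgroup.relIndex_top_right, Subgroup.card_mul_index]
          rw [h2] at h1
          omega
        · obtain ⟨h1, h2⟩ := s3_small_big p hp44 (Nat.card Z) hzp
            ⟨hp5, hzmod, Nat.mod_eq_zero_of_dvd hz3, hp, hex⟩
          exact hchk 216 _ (by omega) (by omega) h1 h2
      · obtain ⟨h1, h2⟩ := s3_small_thin p hp44 (Nat.card Z) hzp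
          ⟨hp5, hzmod, Nat.mod_eq_zero_of_dvd hz3, hp⟩
        exact hchk 108 _ (by omega) (by omega) h1 h2
  have hk5 := hc4 hs4
  rcases Nat.lt_or_ge p 8 with hp8 | hp8
  · exact rs_small (by omega) (by omega) ho1
  have hp11 : 11 ≤ p := by
    by_contra h
    interval_cases p <;> norm_num at hp
  have hpow : ∀ j, j ≤ d - 2 → 5 * 11 ^ j ≤ 5 * p ^ (d - 2) := fun j hj =>
    Nat.mul_le_mul_left _ ((Nat.pow_le_pow_left hp11 j).trans (Nat.pow_le_pow_right (by omega) hj))
  rcases Nat.lt_or_ge s 9 with hs9 | hs9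
  swap
  · exact good _ hX8 ((eighth_eleven s hs9).trans (hpow _ (by omega)))
  interval_cases s
  · -- four
    have := hX ▸ td.relIndex_four hsol hs
    rcases Nat.lt_or_ge d 5 with hd5 | hd5
    swap
    · exact good 1152 (by omega) (le_trans (by norm_num) (hpow 3 (by omega)))
    obtain rfl : d = 4 := by omega
    rcases Nat.lt_or_ge p 17 with hp17 | hp17
    swap
    · exact good 1152 (by omega) (le_trans (by norm_num)
        (Nat.mul_le_mul_left _ (Nat.pow_le_pow_left hp17 2)))
    have hp14 : p < 14 := by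
      by_contra h
      interval_cases p <;> norm_num at hp
    obtain ⟨h1, h2⟩ := s4_small p hp14 (Nat.card Z) hzp
      ⟨hp11, hzmod, Nat.mod_eq_zero_of_dvd (hdiv 2 Nat.prime_two (by norm_num)), hp⟩
    exact hchk 1152 _ (by omega) (by omega) h1 h2
  · have := hX ▸ td.relIndex_prime hx Nat.prime_five hs
    exact good 3000 (by omega) (le_trans (by norm_num) (hpow 3 (by omega)))
  · have := hX ▸ td.relIndex_thirtysix hs
    exact good 46656 (by omega) (le_trans (by norm_num) (hpow 4 (by omega)))
  · have := hX ▸ td.relIndex_prime hx (by norm_num) hs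
    exact good 16464 (by omega) (le_trans (by norm_num) (hpow 5 (by omega)))
  · rcases Nat.lt_or_ge d 9 with hd9 | hd9
    swap
    · exact good (64 * 262144) (by omega) (le_trans (by norm_num) (hpow 7 (by omega)))
    obtain rfl : d = 8 := by omega
    rcases Nat.lt_or_ge p 13 with hp13 | hp13
    swap
    · exact good (64 * 262144) (by omega) (le_trans (by norm_num)
        (Nat.mul_le_mul_left _ (Nat.pow_le_pow_left hp13 6)))
    obtain rfl : p = 11 := by
      by_contra h
      interval_cases p <;> simp_all (config := {decide := true})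
    obtain ⟨h1, h2⟩ := s8_eleven (Nat.card Z) hzp
      ⟨hzmod, Nat.mod_eq_zero_of_dvd (hdiv 2 Nat.prime_two (by norm_num))⟩
    exact hchk (64 * 262144) _ (by omega) (by omega) h1 h2

end Cfsg.Agent.Solv.C49
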