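import Cfsg.Agent.Lib.Solv.ClassFortyNine.Prim
import Cfsg.Agent.Lib.Solv.ClassFortyNine.Fine

/-!
Refining systems and the bound for irreducible groups.
-/

set_option autoImplicit false
set_option linter.unusedSectionVars false
set_option linter.style.haveILetI false

namespace Cfsg.Agent.Solv.C49

open scoped Pointwise
open Cfsg.Agent.Solv.OddPair (kerV mem_kerV subAct quotAct quot_faithful imgRing sys_or_field)

universe v

variable {A V : Type v} [Group A] [Finite A] [AddCommGroup V] [Finite V] [DistribMulAction A V]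

theorem map_subtype_smul (s : Sys A V) (b : MulAction.stabilizer A s.W0) (W : AddSubgroup s.W0) :
    letI := subAct (A := MulAction.stabilizer A s.W0) s.W0 fun b _ hx => mem_stab_W0 s b.2 hx
    (b • W).map s.W0.subtype = (b : A) • W.map s.W0.subtype := by
  letI := subAct (A := MulAction.stabilizer A s.W0) s.W0 fun b _ hx => mem_stab_W0 s b.2 hx
  ext v
  constructor
  · rintro ⟨_, ⟨x, hx, rfl⟩, rfl⟩
    exact ⟨(x : V), ⟨x, hx, rfl⟩, rfl⟩
  · rintro ⟨_, ⟨x, hx, rfl⟩, rfl⟩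
    exact ⟨b • x, ⟨x, hx, rfl⟩, rfl⟩

/-- A system inside a block gives a finer system. -/
theorem exists_refinement (hirr : Irred A V) (s : Sys A V)
    (t : letI := subAct (A := MulAction.stabilizer A s.W0) s.W0 fun b _ hx => mem_stab_W0 s b.2 hx
      Sys (MulAction.stabilizer A s.W0) s.W0) :
    ∃ s' : Sys A V, Nat.card s'.W0 < Nat.card s.W0 := by
  classical
  letI := subAct (A := MulAction.stabilizer A s.W0) s.W0 fun b _ hx => mem_stab_W0 s b.2 hx
  obtain ⟨U, hU⟩ : ∃ U, U = t.W0.map s.W0.subtype := ⟨_, rfl⟩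
  have hUW : U ≤ s.W0 := by
    rw [hU]; rintro _ ⟨x, -, rfl⟩; exact x.2
  let g : V →+ s.W0 := (s.e s.W0 : V →+ V).codRestrict s.W0
    fun v => e_mem hirr s (MulAction.mem_orbit_self _) v
  let f : V →+ V := s.W0.subtype.comp ((t.e t.W0 : s.W0 →+ s.W0).comp g)
  have hf1 : ∀ x ∈ U, f x = x := by
    intro x hx
    rw [hU] at hx
    obtain ⟨y, hy, rfl⟩ := hx
    show (t.e t.W0 (g (y : V)) : V) = y
    have hg : g (y : V) = y := Subtype.ext (s.one s.W0 (MulAction.mem_orbit_self _) _ y.2)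
    rw [hg, t.one t.W0 (MulAction.mem_orbit_self _) y hy]
  have hf0 : ∀ a : A, a • U ≠ U → ∀ x ∈ a • U, f x = 0 := by
    intro a ha x hx
    by_cases hW : a • s.W0 = s.W0
    · obtain ⟨b, rfl⟩ : ∃ b : MulAction.stabilizer A s.W0, (b : A) = a := ⟨⟨a, hW⟩, rfl⟩
      rw [hU, ← map_subtype_smul] at hx ha
      obtain ⟨y, hy, rfl⟩ := hx
      show (t.e t.W0 (g (y : V)) : V) = 0
      have hg : g (y : V) = y := Subtype.ext (s.one s.W0 (MulAction.mem_orbit_self _) _ y.2)
      rw [hg, t.zero t.W0 (MulAction.mem_orbit_self _) (b • t.W0) (MulAction.mem_orbit _ b)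
        (fun e => ha (congrArg (AddSubgroup.map s.W0.subtype) e)) y hy]
      rfl
    · have hx' : x ∈ a • s.W0 := AddSubgroup.pointwise_smul_le_pointwise_smul_iff.2 hUW hx
      show (t.e t.W0 (g x) : V) = 0
      have hg : g x = 0 := Subtype.ext
        (s.zero s.W0 (MulAction.mem_orbit_self _) (a • s.W0) (MulAction.mem_orbit _ a) hW x hx')
      rw [hg, map_zero]
      rfl
  have hex : ∀ W : AddSubgroup V, ∃ a : A, W ∈ MulAction.orbit A U → a • U = W := by
    intro W
    by_cases h : W ∈ MulAction.orbit A U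
    · obtain ⟨a, ha⟩ := h
      exact ⟨a, fun _ => ha⟩
    · exact ⟨1, fun h' => absurd h' h⟩
  choose a ha using hex
  refine ⟨⟨U, fun W => (DistribSMul.toAddMonoidHom V (a W)).comp
    (f.comp (DistribSMul.toAddMonoidHom V (a W)⁻¹)), ?_, ?_, ?_, ?_⟩, ?_⟩
  · rw [hU, Ne, AddSubgroup.map_eq_bot_iff_of_injective _ Subtype.val_injective]
    exact t.ne
  · intro W hW x hx
    show a W • f ((a W)⁻¹ • x) = x
    rw [← ha W hW, AddSubgroup.mem_pointwise_smul_iff_inv_smul_mem] at hx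
    rw [hf1 _ hx, smul_inv_smul]
  · intro W hW W' hW' hne x hx
    show a W • f ((a W)⁻¹ • x) = 0
    rw [← ha W' hW'] at hx hne
    have h1 := AddSubgroup.smul_mem_pointwise_smul x (a W)⁻¹ _ hx
    rw [← mul_smul] at h1
    rw [hf0 _ (fun e => hne (by
      have h2 := congrArg (a W • ·) e
      rw [← mul_smul, mul_inv_cancel_left, ha W hW] at h2
      exact h2)) _ h1, smul_zero]
  · obtain ⟨b, hb⟩ := t.moves
    refine ⟨(b : A), fun e => hb ?_⟩
    rw [hU, ← map_subtype_smul] at e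
    exact AddSubgroup.map_injective Subtype.val_injective e
  · show Nat.card U < Nat.card s.W0
    rw [hU, AddSubgroup.card_map_of_injective Subtype.val_injective]
    refine lt_of_le_of_ne (Finite.card_subtype_le _) fun h => ?_
    obtain ⟨b, hb⟩ := t.moves
    have h1 : t.W0 = ⊤ := AddSubgroup.eq_top_of_card_eq _ h
    refine hb (AddSubgroup.eq_top_of_card_eq _ ?_ |>.trans h1.symm)
    rw [card_smul, h1, AddSubgroup.card_top]

/-- The bound for irreducible groups of dimension at least two. -/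
theorem bound_irred (hsol : Group.IsSolvable A) (hf : ∀ a : A, (∀ x : V, a • x = x) → a = 1)
    (hirr : Irred A V) {p n : ℕ} [Fact p.Prime] (hV : Nat.card V = p ^ n) (hn : 2 ≤ n) :
    49 * p ≤ 60 * (clN A + (orbN A V - 1)) := by
  classical
  have hp := (Fact.out : p.Prime)
  haveI : Nontrivial V := Finite.one_lt_card_iff_nontrivial.1 (by
    rw [hV]; exact Nat.one_lt_pow (by omega) hp.one_lt)
  by_cases hfield : ∀ N : Subgroup A, N.Normal → (∀ x ∈ N, ∀ y ∈ N, Commute x y) →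
      ∀ b ∈ imgRing V N, ∀ x : V, x ≠ 0 → b x = 0 → b = 0
  · exact (rs_primitive hV hn hsol hf hfield).1
  push Not at hfield
  obtain ⟨N, hN, hNc, b, hb, x, hx, hbx, hb0⟩ := hfield
  obtain ⟨W0, e, h0, h1, h2, hm⟩ := (sys_or_field hirr hN hNc).resolve_right fun h => hb0 (h b hb x hx hbx)
  have hex : ∃ c, ∃ s : Sys A V, Nat.card s.W0 = c := ⟨_, ⟨W0, e, h0, h1, h2, hm⟩, rfl⟩
  obtain ⟨s, hsc⟩ := Nat.find_spec hex
  have hmin : ∀ s' : Sys A V, Nat.card s.W0 ≤ Nat.card s'.W0 := fun s' =>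
    hsc ▸ Nat.find_min' hex ⟨s', rfl⟩
  obtain ⟨i, -, hi⟩ := (Nat.dvd_prime_pow hp).1 (hV ▸ AddSubgroup.card_addSubgroup_dvd_card s.W0)
  have hi0 : i ≠ 0 := fun h => s.ne (AddSubgroup.eq_bot_of_card_le _ (by rw [hi, h]; rfl))
  by_cases hi1 : i = 1
  · exact sum_bound_lines hf hsol hirr s (by rw [hi, hi1, pow_one])
  refine sum_bound_blocks hirr s ?_
  letI := subAct (A := MulAction.stabilizer A s.W0) s.W0 fun b _ hx => mem_stab_W0 s b.2 hx
  haveI : Nontrivial s.W0 := (AddSubgroup.nontrivial_iff_ne_bot _).2 s.ne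
  let B := MulAction.stabilizer A s.W0
  letI := quotAct (A := B) (V := s.W0)
  haveI := hsol
  have hsolQ : Group.IsSolvable (B ⧸ kerV B s.W0) :=
    Group.isSolvable_of_surjective (f := QuotientGroup.mk' (kerV B s.W0)) (QuotientGroup.mk'_surjective _)
  have hirrB := irred_block hirr s
  have hirrQ : Irred (B ⧸ kerV B s.W0) s.W0 := fun U hU =>
    hirrB U fun a x hx => hU (a : B ⧸ kerV B s.W0) x hx
  have hfieldQ : ∀ N : Subgroup (B ⧸ kerV B s.W0), N.Normal → (∀ x ∈ N, ∀ y ∈ N, Commute x y) →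
      ∀ b ∈ imgRing s.W0 N, ∀ x : s.W0, x ≠ 0 → b x = 0 → b = 0 := by
    by_contra hc
    push Not at hc
    obtain ⟨N, hN, hNc, b, hb, x, hx, hbx, hb0⟩ := hc
    obtain ⟨U0, e, h0, h1, h2, ⟨c, hc⟩⟩ :=
      (sys_or_field hirrQ hN hNc).resolve_right fun h => hb0 (h b hb x hx hbx)
    obtain ⟨c, rfl⟩ := QuotientGroup.mk_surjective c
    have horb : ∀ W, W ∈ MulAction.orbit B U0 → W ∈ MulAction.orbit (B ⧸ kerV B s.W0) U0 := by
      rintro _ ⟨g, rfl⟩
      exact ⟨(g : B ⧸ kerV B s.W0), rfl⟩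
    obtain ⟨s', hs'⟩ := exists_refinement hirr s
      ⟨U0, e, h0, fun W hW => h1 W (horb W hW), fun W hW W' hW' => h2 W (horb W hW) W' (horb W' hW'),
        c, hc⟩
    exact absurd (hmin s') (not_le.2 hs')
  refine (rs_primitive (A := B ⧸ kerV B s.W0) hi (by omega) hsolQ quot_faithful hfieldQ).mono
    (Nat.card_le_card_of_surjective _ (ConjClasses.map_surjective
      (f := QuotientGroup.mk' (kerV B s.W0)) (QuotientGroup.mk'_surjective _))) ?_
  refine Nat.sub_le_sub_right (Nat.card_le_card_of_surjective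
    (Quotient.map' id fun x y h => ?_) fun q => ?_) 1
  · obtain ⟨g, hg⟩ := MulAction.orbitRel_apply.1 h
    exact MulAction.orbitRel_apply.2 ⟨(g : B ⧸ kerV B s.W0), hg⟩
  · induction q using Quotient.inductionOn' with
    | h x => exact ⟨Quotient.mk'' x, rfl⟩

end Cfsg.Agent.Solv.C49
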