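import Cfsg.Agent.Lib.Solv.ClassFortyNine.Struct
import Cfsg.Agent.Lib.Solv.ClassFortyNine.Fine

/-!
Bounds for soluble groups acting completely reducibly on small modules.
-/

set_option autoImplicit false
set_option linter.unusedSectionVars false
set_option linter.style.haveILetI false

namespace Cfsg.Agent.Solv.C49

open scoped Pointwise
open Cfsg.Agent.Solv.OddPair (kerV mem_kerV subAct quotAct quot_faithful cr_quot cr_sub CR
  imgRing Extra exists_extra)

universe u v

section general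

variable {A : Type u} {V : Type v} [Group A] [Finite A] [AddCommGroup V] [Finite V]
  [DistribMulAction A V]

/-- The kernel has index at most the number of images of a separating tuple. -/
theorem index_kerV_le {ι : Type*} [Finite ι] (v : ι → V) (P : ι → AddSubgroup V)
    (hP : ∀ i, ∀ a : A, a • v i ∈ P i)
    (h : ∀ a : A, (∀ i, a • v i = v i) → ∀ x : V, a • x = x) :
    (kerV A V).index ≤ Nat.card ((i : ι) → P i) := by
  rw [Subgroup.index_eq_card]
  refine Nat.card_le_card_of_injective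
    (fun q => fun i => (⟨q.out • v i, hP i q.out⟩ : P i)) fun q r e => ?_
  rw [← QuotientGroup.out_eq' q, ← QuotientGroup.out_eq' r]
  refine QuotientGroup.eq.2 (mem_kerV.2 (h _ fun i => ?_))
  rw [mul_smul, inv_smul_eq_iff]
  exact (congrArg Subtype.val (congrFun e i)).symm

/-- A subgroup of square order `l * l` is generated by two elements. -/
theorem exists_pair_gen {l : ℕ} (hl : l.Prime) (U : AddSubgroup V) (hU : Nat.card U = l * l)
    (hexp : ∀ x ∈ U, l • x = 0) :
    ∃ x ∈ U, ∃ y ∈ U, x ≠ 0 ∧ y ∉ AddSubgroup.zmultiples x ∧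
      ∀ F : AddSubgroup V, x ∈ F → y ∈ F → U ≤ F := by
  classical
  haveI := Fact.mk hl
  have hl2 := hl.two_le
  obtain ⟨x, hx, hx0⟩ : ∃ x ∈ U, x ≠ 0 := by
    by_contra h
    push Not at h
    rw [(AddSubgroup.eq_bot_iff_forall U).2 h, AddSubgroup.card_bot] at hU
    nlinarith
  have hzc : Nat.card (AddSubgroup.zmultiples x) = l := by
    rw [Nat.card_zmultiples]
    exact addOrderOf_eq_prime (hexp x hx) hx0
  obtain ⟨y, hy, hyx⟩ : ∃ y ∈ U, y ∉ AddSubgroup.zmultiples x := by
    by_contra h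
    push Not at h
    have h1 := AddSubgroup.card_le_of_le (show U ≤ AddSubgroup.zmultiples x from h)
    rw [hU, hzc] at h1
    nlinarith
  refine ⟨x, hx, y, hy, hx0, hyx, fun F hxF hyF => ?_⟩
  have hle : AddSubgroup.zmultiples x ≤ F ⊓ U :=
    le_inf (AddSubgroup.zmultiples_le.2 hxF) (AddSubgroup.zmultiples_le.2 hx)
  have h1 : Nat.card (F ⊓ U : AddSubgroup V) ∣ l ^ 2 := by
    rw [pow_two, ← hU]; exact AddSubgroup.card_dvd_of_le inf_le_right
  obtain ⟨i, hi, hi'⟩ := (Nat.dvd_prime_pow hl).1 h1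
  have h2 : l ∣ Nat.card (F ⊓ U : AddSubgroup V) := hzc ▸ AddSubgroup.card_dvd_of_le hle
  interval_cases i
  · rw [hi', pow_zero] at h2
    exact absurd (Nat.le_of_dvd one_pos h2) (by omega)
  · have h3 : AddSubgroup.zmultiples x = F ⊓ U :=
      AddSubgroup.eq_of_le_of_card_ge hle (by rw [hi', pow_one, hzc])
    exact absurd (h3 ▸ AddSubgroup.mem_inf.2 ⟨hyF, hy⟩) hyx
  · have h3 : F ⊓ U = U :=
      AddSubgroup.eq_of_le_of_card_ge inf_le_right (by rw [hi', hU, pow_two])
    exact inf_eq_right.1 h3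

/-- The part killed by a number. -/
def torPart (V : Type v) [AddCommGroup V] (l : ℕ) : AddSubgroup V :=
  (nsmulAddMonoidHom l : V →+ V).ker

theorem mem_torPart {l : ℕ} {x : V} : x ∈ torPart V l ↔ l • x = 0 := Iff.rfl

theorem torPart_inv (l : ℕ) (a : A) (x : V) (hx : x ∈ torPart V l) : a • x ∈ torPart V l := by
  rw [mem_torPart] at hx ⊢
  have h1 : DistribSMul.toAddMonoidHom V a (l • x) = l • DistribSMul.toAddMonoidHom V a x := map_nsmul _ _ _
  rw [hx, map_zero] at h1
  exact h1.symm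

/-- In a completely reducible module the part killed by a prime is the whole primary part. -/
theorem card_torPart (hcr : CR A V) {l : ℕ} (hl : l.Prime) {e w : ℕ}
    (hV : Nat.card V = l ^ e * w) (hw : ¬l ∣ w) : Nat.card (torPart V l) = l ^ e := by
  classical
  haveI := Fact.mk hl
  obtain ⟨W, -, hd, hs⟩ := hcr (torPart V l) fun a x hx => torPart_inv l a x hx
  have hP : ∃ i, Nat.card (torPart V l) = l ^ i :=
    (IsPGroup.iff_card (p := l) (G := Multiplicative (torPart V l))).1 fun x =>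
      ⟨1, by rw [pow_one]; exact congrArg Multiplicative.ofAdd (Subtype.ext (Multiplicative.toAdd x).2)⟩
  obtain ⟨i, hi⟩ := hP
  have hW : ¬l ∣ Nat.card W := by
    intro h
    obtain ⟨x, hx⟩ := exists_prime_addOrderOf_dvd_card' l h
    have h1 : l • x = 0 := hx ▸ addOrderOf_nsmul_eq_zero x
    have h2 : (x : V) ∈ torPart V l ⊓ W :=
      AddSubgroup.mem_inf.2 ⟨mem_torPart.2 (congrArg Subtype.val h1), x.2⟩
    rw [hd, AddSubgroup.mem_bot] at h2
    rw [show x = 0 from Subtype.ext h2, addOrderOf_zero] at hx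
    exact hl.ne_one hx.symm
  have hprod : Nat.card V = Nat.card (torPart V l) * Nat.card W := by
    rw [← Nat.card_prod]
    refine (Nat.card_congr (Equiv.ofBijective
      (fun q : torPart V l × W => (q.1 : V) + q.2) ⟨fun q r e => ?_, fun x => ?_⟩)).symm
    · have e' : (q.1 : V) + q.2 = r.1 + r.2 := e
      have h1 : (q.1 : V) - r.1 ∈ torPart V l ⊓ W := AddSubgroup.mem_inf.2 ⟨sub_mem q.1.2 r.1.2, by
        rw [sub_eq_sub_iff_add_eq_add.2 (e'.trans (add_comm _ _) : (q.1 : V) + q.2 = (r.2 : V) + r.1)]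
        exact sub_mem r.2.2 q.2.2⟩
      rw [hd, AddSubgroup.mem_bot, sub_eq_zero] at h1
      rw [h1] at e'
      exact Prod.ext (Subtype.ext h1) (Subtype.ext (add_left_cancel e'))
    · obtain ⟨a, ha, b, hb, rfl⟩ := AddSubgroup.mem_sup.1 (hs ▸ AddSubgroup.mem_top x)
      exact ⟨(⟨a, ha⟩, ⟨b, hb⟩), rfl⟩
  rw [hi] at hprod ⊢
  have h1 : l ^ e ∣ l ^ i := (Nat.Coprime.pow_left e (hl.coprime_iff_not_dvd.2 hW)).dvd_of_dvd_mul_right
    (hprod ▸ hV.symm ▸ dvd_mul_right _ _)
  have h2 : l ^ i ∣ l ^ e := (Nat.Coprime.pow_left i (hl.coprime_iff_not_dvd.2 hw)).dvd_of_dvd_mul_right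
    (hV ▸ hprod.symm ▸ dvd_mul_right _ _)
  exact Nat.dvd_antisymm h2 h1

/-- Irreducible groups with blocks are small. -/
theorem card_le_blocks (hf : ∀ a : A, (∀ x : V, a • x = x) → a = 1) (hirr : Irred A V) (s : Sys A V) :
    Nat.card A ≤ Nat.factorial (Nat.card (MulAction.orbit A s.W0)) *
      Nat.factorial (Nat.card s.W0 - 1) ^ Nat.card (MulAction.orbit A s.W0) := by
  classical
  haveI : Fintype (MulAction.orbit A s.W0) := Fintype.ofFinite _
  let ρ := MulAction.toPermHom A (MulAction.orbit A s.W0)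
  have h1 : ρ.ker.index ≤ Nat.factorial (Nat.card (MulAction.orbit A s.W0)) := by
    rw [Subgroup.index_ker, ← Nat.card_perm]
    exact Subgroup.card_le_card_group _
  rw [← ρ.ker.card_mul_index, mul_comm]
  refine Nat.mul_le_mul h1 ?_
  have hstab : ∀ (d : ρ.ker) (W : MulAction.orbit A s.W0) (x : V),
      x ∈ (W : AddSubgroup V) → (d : A) • x ∈ (W : AddSubgroup V) := by
    intro d W x hx
    have e : (d : A) • W = W := Equiv.Perm.congr_fun d.2 W
    exact (congrArg Subtype.val e) ▸ AddSubgroup.smul_mem_pointwise_smul x (d : A) _ hx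
  let nz : MulAction.orbit A s.W0 → Type v := fun W => {x : (W : AddSubgroup V) // x ≠ 0}
  let f : (d : ρ.ker) → (W : MulAction.orbit A s.W0) → Equiv.Perm (nz W) := fun d W =>
    { toFun := fun x => ⟨⟨(d : A) • (x.1 : V), hstab d W _ x.1.2⟩, fun e => x.2 (Subtype.ext
        ((smul_eq_zero_iff_eq (d : A)).1 (congrArg Subtype.val e)))⟩
      invFun := fun x => ⟨⟨((d⁻¹ : ρ.ker) : A) • (x.1 : V), hstab d⁻¹ W _ x.1.2⟩, fun e => x.2 (Subtype.ext
        ((smul_eq_zero_iff_eq ((d⁻¹ : ρ.ker) : A)).1 (congrArg Subtype.val e)))⟩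
      left_inv := fun x => Subtype.ext (Subtype.ext (inv_smul_smul (d : A) _))
      right_inv := fun x => Subtype.ext (Subtype.ext (smul_inv_smul (d : A) _)) }
  have hinj : Function.Injective f := by
    intro d d' e
    refine Subtype.ext (inv_mul_eq_one.1 (hf ((d' : A)⁻¹ * d) fun v => ?_)).symm
    refine ext_blocks hirr s (DistribSMul.toAddMonoidHom V ((d' : A)⁻¹ * d)) (AddMonoidHom.id V)
      (fun W hW x hx => ?_) v
    show ((d' : A)⁻¹ * d) • x = x
    by_cases hx0 : x = 0
    · rw [hx0, smul_zero]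
    have h2 := congrArg (fun z : nz ⟨W, hW⟩ => (z.1 : V))
      (Equiv.Perm.congr_fun (congrFun e ⟨W, hW⟩) ⟨⟨x, hx⟩, fun e' => hx0 (congrArg Subtype.val e')⟩)
    rw [mul_smul, inv_smul_eq_iff]
    exact h2
  refine (Nat.card_le_card_of_injective f hinj).trans (le_of_eq ?_)
  rw [Nat.card_pi, Finset.prod_congr rfl (g := fun _ => Nat.factorial (Nat.card s.W0 - 1)) fun W _ => by
    rw [Nat.card_perm]
    congr 1
    haveI : Fintype (W : AddSubgroup V) := Fintype.ofFinite _
    show Nat.card {x : (W : AddSubgroup V) // x ≠ 0} = _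
    rw [Nat.card_eq_fintype_card, Fintype.card_subtype_compl, Fintype.card_subtype_eq,
      ← Nat.card_eq_fintype_card]
    obtain ⟨a, ha⟩ := W.2
    rw [← ha]
    exact congrArg (· - 1) (card_smul a s.W0),
    Finset.prod_const, Finset.card_univ, ← Nat.card_eq_fintype_card (α := MulAction.orbit A s.W0)]

end general

/-- The largest soluble completely reducible groups in characteristic two. -/
def twoB (n : ℕ) : ℕ := [1, 1, 6, 21, 72].getD n 0

theorem twoB_mul : ∀ i < 5, ∀ j < 5, i + j ≤ 4 → 1 ≤ i → 1 ≤ j → twoB i * twoB j ≤ twoB (i + j) := by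
  decide

theorem twoB_blocks : ∀ i < 5, ∀ m < 5, i * m ≤ 4 → 1 ≤ i → 2 ≤ m →
    Nat.factorial m * Nat.factorial (2 ^ i - 1) ^ m ≤ twoB (i * m) := by
  decide

theorem twoB_semi : ∀ a < 5, ∀ d < 5, a * d ≤ 4 → 1 ≤ a → 1 ≤ d →
    a * (2 ^ a - 1) ≤ twoB (a * d) := by
  decide

variable {A V : Type v} [Group A] [Finite A] [AddCommGroup V] [Finite V] [DistribMulAction A V]

/-- A primitive group in characteristic two of dimension at most four is semilinear. -/
theorem two_prim [Nontrivial V] (hsol : Group.IsSolvable A)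
    (hf : ∀ a : A, (∀ x : V, a • x = x) → a = 1)
    (hfield : ∀ N : Subgroup A, N.Normal → (∀ x ∈ N, ∀ y ∈ N, Commute x y) →
      ∀ b ∈ imgRing V N, ∀ x : V, x ≠ 0 → b x = 0 → b = 0)
    {n : ℕ} (hn : n ≤ 4) (hV : Nat.card V = 2 ^ n) : Nat.card A ≤ twoB n := by
  haveI := Fact.mk Nat.prime_two
  obtain ⟨Z, hZn, K, _, _, _, ι, a, hZc, hmax, hι, hιsmul, hlin, hK, hidx, hnad⟩ :=
    exists_field hf hfield hV
  haveI := hZn
  have hd0 : 0 < Module.finrank K V := Module.finrank_pos
  have ha : 0 < a := by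
    have h1 : (Subgroup.centralizer (Z : Set A)).index ≠ 0 := Subgroup.index_ne_zero_of_finite
    omega
  have hz : Nat.card Z ∣ 2 ^ a - 1 := hK ▸ card_dvd_units (V := V) ι hι hιsmul
  have ha4 : a ≤ n := hnad ▸ Nat.le_mul_of_pos_right a hd0
  by_cases hCZ : Subgroup.centralizer (Z : Set A) ≤ Z
  · rw [hnad]
    refine le_trans ?_ (twoB_semi a (by omega) (Module.finrank K V) ?_ (by omega) (by omega) (by omega))
    · rw [← (Subgroup.centralizer (Z : Set A)).card_mul_index, mul_comm]
      refine Nat.mul_le_mul hidx ((Subgroup.card_le_of_le hCZ).trans (Nat.le_of_dvd ?_ hz))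
      have : 2 ≤ 2 ^ a := Nat.le_self_pow (by omega) 2
      omega
    · have := Nat.le_mul_of_pos_left (Module.finrank K V) ha
      omega
  · exfalso
    obtain ⟨E, hx, hEZ⟩ := exists_extra hsol hZc hmax ι hι hCZ
    obtain ⟨s, -, hs2, hsd, hdiv⟩ := exists_layer_size ι hι hιsmul hlin hx hEZ
    obtain ⟨l, hl, hls⟩ := Nat.exists_prime_and_dvd (show s ≠ 1 by omega)
    have h1 := (hdiv l hl hls).trans hz
    have ha2 : a ≤ 2 := by
      have := Nat.mul_le_mul_left a (hs2.trans hsd)
      omega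
    have hle : l ≤ s := Nat.le_of_dvd (by omega) hls
    interval_cases a
    · exact hl.ne_one (Nat.dvd_one.1 h1)
    · have h3 : l = 3 := (Nat.prime_dvd_prime_iff_eq hl Nat.prime_three).1 h1
      omega

/-- Soluble completely reducible groups in characteristic two of dimension at most four. -/
theorem two_bound (n : ℕ) : ∀ (A V : Type v) [Group A] [Finite A] [AddCommGroup V] [Finite V]
    [DistribMulAction A V], Group.IsSolvable A → CR A V → n ≤ 4 → Nat.card V = 2 ^ n →
      (kerV A V).index ≤ twoB n := by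
  induction n using Nat.strong_induction_on with
  | _ n ih =>
    intro A V _ _ _ _ _ hsol hcr hn hV
    rcases Nat.eq_zero_or_pos n with rfl | hn0
    · haveI : Subsingleton V := (Nat.card_eq_one_iff_unique.1 (by simpa using hV)).1
      rw [Subgroup.index_eq_one.2 ((Subgroup.eq_top_iff' _).2 fun a => mem_kerV.2 fun x =>
        Subsingleton.elim _ _)]
      exact le_of_eq rfl
    haveI : Nontrivial V := Finite.one_lt_card_iff_nontrivial.1 (hV ▸ Nat.one_lt_two_pow (by omega))
    by_cases hirr : Irred A V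
    · letI := quotAct (A := A) (V := V)
      haveI := hsol
      have hQ : Group.IsSolvable (A ⧸ kerV A V) :=
        Group.isSolvable_of_surjective (f := QuotientGroup.mk' (kerV A V)) (QuotientGroup.mk'_surjective _)
      have hirr' : Irred (A ⧸ kerV A V) V := fun U hU => hirr U fun a x hx => hU (a : A ⧸ kerV A V) x hx
      rw [Subgroup.index_eq_card]
      by_cases hfield : ∀ N : Subgroup (A ⧸ kerV A V), N.Normal → (∀ x ∈ N, ∀ y ∈ N, Commute x y) →
          ∀ b ∈ imgRing V N, ∀ x : V, x ≠ 0 → b x = 0 → b = 0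
      · exact two_prim hQ quot_faithful hfield hn hV
      · push Not at hfield
        obtain ⟨N, hN, hNc, b, hb, x, hx, hbx, hb0⟩ := hfield
        obtain ⟨W0, e, h0, h1, h2, hm⟩ :=
          (Cfsg.Agent.Solv.OddPair.sys_or_field hirr' hN hNc).resolve_right fun h => hb0 (h b hb x hx hbx)
        let s : Sys (A ⧸ kerV A V) V := ⟨W0, e, h0, h1, h2, hm⟩
        refine (card_le_blocks quot_faithful hirr' s).trans ?_
        have hc := card_eq_pow hirr' s
        obtain ⟨i, -, hi⟩ := (Nat.dvd_prime_pow Nat.prime_two).1 (hV ▸ AddSubgroup.card_addSubgroup_dvd_card s.W0)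
        obtain ⟨m, hm'⟩ : ∃ m, m = Nat.card (MulAction.orbit (A ⧸ kerV A V) s.W0) := ⟨_, rfl⟩
        rw [← hm', hi, hV, ← pow_mul] at hc
        have hnim : n = i * m := Nat.pow_right_injective le_rfl hc
        haveI : Nontrivial (MulAction.orbit (A ⧸ kerV A V) s.W0) := by
          obtain ⟨a, ha⟩ := s.moves
          exact ⟨⟨⟨_, MulAction.mem_orbit _ a⟩, ⟨_, MulAction.mem_orbit_self _⟩,
            fun e => ha (congrArg Subtype.val e)⟩⟩
        have hm2 : 2 ≤ m := hm' ▸ (Finite.one_lt_card : 1 < Nat.card (MulAction.orbit (A ⧸ kerV A V) s.W0))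
        have hi1 : 1 ≤ i := Nat.pos_of_ne_zero fun h => s.ne (AddSubgroup.eq_bot_of_card_le _ (by rw [hi, h]; rfl))
        have h3 : i ≤ n := hnim ▸ Nat.le_mul_of_pos_right i (by omega)
        have h4 : m ≤ n := hnim ▸ Nat.le_mul_of_pos_left m (by omega)
        rw [← hm', hi, hnim]
        exact twoB_blocks i (by omega) m (by omega) (by omega) hi1 hm2
    · simp only [Irred] at hirr
      push Not at hirr
      obtain ⟨U, hU, hU0, hU1⟩ := hirr
      obtain ⟨W, hW, hd, hs⟩ := hcr U hU
      obtain ⟨i, -, hi⟩ := (Nat.dvd_prime_pow Nat.prime_two).1 (hV ▸ AddSubgroup.card_addSubgroup_dvd_card U)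
      obtain ⟨j, -, hj⟩ := (Nat.dvd_prime_pow Nat.prime_two).1 (hV ▸ AddSubgroup.card_addSubgroup_dvd_card W)
      have hprod : Nat.card U * Nat.card W = Nat.card V := by
        rw [← Nat.card_prod]
        refine Nat.card_congr (Equiv.ofBijective (fun q : U × W => (q.1 : V) + q.2)
          ⟨fun q r e => ?_, fun x => ?_⟩)
        · have e' : (q.1 : V) + q.2 = r.1 + r.2 := e
          have h1 : (q.1 : V) - r.1 ∈ U ⊓ W := AddSubgroup.mem_inf.2 ⟨sub_mem q.1.2 r.1.2, by
            rw [sub_eq_sub_iff_add_eq_add.2 (e'.trans (add_comm _ _) : (q.1 : V) + q.2 = (r.2 : V) + r.1)]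
            exact sub_mem r.2.2 q.2.2⟩
          rw [hd, AddSubgroup.mem_bot, sub_eq_zero] at h1
          rw [h1] at e'
          exact Prod.ext (Subtype.ext h1) (Subtype.ext (add_left_cancel e'))
        · obtain ⟨a, ha, b, hb, rfl⟩ := AddSubgroup.mem_sup.1 (hs ▸ AddSubgroup.mem_top x)
          exact ⟨(⟨a, ha⟩, ⟨b, hb⟩), rfl⟩
      rw [hi, hj, hV, ← pow_add] at hprod
      have hn' : i + j = n := Nat.pow_right_injective le_rfl hprod
      have hi1 : 1 ≤ i := Nat.pos_of_ne_zero fun h => hU0 (AddSubgroup.eq_bot_of_card_le _ (by rw [hi, h]; rfl))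
      have hj1 : 1 ≤ j := Nat.pos_of_ne_zero fun h => hU1 (by
        have h1 : W = ⊥ := AddSubgroup.eq_bot_of_card_le _ (by rw [hj, h]; rfl)
        rwa [h1, sup_bot_eq] at hs)
      letI aU : DistribMulAction A U := subAct U hU
      letI aW : DistribMulAction A W := subAct W hW
      have b1 := ih i (by omega) A U hsol (cr_sub hcr U hU) (by omega) hi
      have b2 := ih j (by omega) A W hsol (cr_sub hcr W hW) (by omega) hj
      have hle : kerV A U ⊓ kerV A W ≤ kerV A V := by
        intro a ha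
        refine mem_kerV.2 fun x => ?_
        obtain ⟨u, hu, w, hw, rfl⟩ := AddSubgroup.mem_sup.1 (hs ▸ AddSubgroup.mem_top x)
        rw [smul_add, show a • u = u from congrArg Subtype.val (mem_kerV.1 ha.1 ⟨u, hu⟩),
          show a • w = w from congrArg Subtype.val (mem_kerV.1 ha.2 ⟨w, hw⟩)]
      refine ((Nat.le_of_dvd (Nat.pos_of_ne_zero Subgroup.index_ne_zero_of_finite)
        (Subgroup.index_dvd_of_le hle)).trans (Subgroup.index_inf_le)).trans ?_
      refine (Nat.mul_le_mul b1 b2).trans ?_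
      rw [← hn']
      exact twoB_mul i (by omega) j (by omega) (by omega) hi1 hj1

end Cfsg.Agent.Solv.C49
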