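import Cfsg.Agent.Lib.Solv.OddPair.Prim
import Cfsg.Agent.Lib.Solv.ClassFortyNine.Count

/-!
The field of a maximal normal abelian subgroup and the layer above it.
-/

set_option autoImplicit false
set_option linter.unusedSectionVars false
set_option linter.style.haveILetI false
set_option maxHeartbeats 800000

namespace Cfsg.Agent.Solv.C49

open Cfsg.Agent.Solv.OddPair (imgRing mem_imgRing imgRing_comm imgRing_conj Extra MaxAb chi
  eigvec_indep ringAut_card_le)

universe u v

/-- Classes inside a subgroup centralised by a subgroup of bounded index. -/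
theorem card_le_clsIn_mul_of_centralized {G : Type u} [Group G] [Finite G] (N B : Subgroup G)
    (h : ∀ x ∈ N, ∀ b ∈ B, b * x = x * b) : Nat.card N ≤ Nat.card (clsIn N) * B.index := by
  classical
  haveI : Fintype N := Fintype.ofFinite _
  haveI : Fintype (clsIn N) := Fintype.ofFinite _
  haveI : Fintype (G ⧸ B) := Fintype.ofFinite _
  let f : N → clsIn N := fun x => ⟨ConjClasses.mk (x : G), x, x.2, rfl⟩
  rw [Subgroup.index_eq_card, Nat.card_eq_fintype_card, Nat.card_eq_fintype_card,
    Nat.card_eq_fintype_card, ← Finset.card_univ (α := N), ← Finset.card_univ (α := clsIn N),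
    mul_comm]
  refine Finset.card_le_mul_card_image_of_maps_to (f := f) (fun _ _ => Finset.mem_univ _) _
    fun c _ => ?_
  rcases (Finset.univ.filter fun x : N => f x = c).eq_empty_or_nonempty with h0 | ⟨x0, hx0⟩
  · rw [h0]; simp
  rw [Finset.mem_filter] at hx0
  have hex : ∀ x ∈ Finset.univ.filter (fun x : N => f x = c), ∃ g : G, g * (x0 : G) * g⁻¹ = x := by
    intro x hx
    rw [Finset.mem_filter] at hx
    exact isConj_iff.1 (ConjClasses.mk_eq_mk_iff_isConj.1 (congrArg Subtype.val (hx0.2.trans hx.2.symm)))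
  choose! g hg using hex
  refine (Finset.card_le_card_of_injOn (fun x => (g x : G ⧸ B)) (fun _ _ => Finset.mem_univ _) ?_).trans
    Finset.card_univ.le
  intro x hx y hy e
  have hb : (g x)⁻¹ * g y ∈ B := QuotientGroup.eq.1 e
  refine Subtype.ext ?_
  rw [← hg x hx, ← hg y hy]
  have h1 := h x0 x0.2 _ hb
  calc g x * (x0 : G) * (g x)⁻¹ = g x * ((x0 : G) * ((g x)⁻¹ * g y)) * (g y)⁻¹ := by group
    _ = g y * (x0 : G) * (g y)⁻¹ := by rw [← h1]; group

section field

variable {A V : Type v} [Group A] [Finite A] [AddCommGroup V] [Finite V] [DistribMulAction A V]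

/-- The field of a maximal normal abelian subgroup. -/
theorem exists_field [Nontrivial V] (hf : ∀ a : A, (∀ x : V, a • x = x) → a = 1)
    (hfield : ∀ N : Subgroup A, N.Normal → (∀ x ∈ N, ∀ y ∈ N, Commute x y) →
      ∀ b ∈ imgRing V N, ∀ x : V, x ≠ 0 → b x = 0 → b = 0)
    {p n : ℕ} [Fact p.Prime] (hV : Nat.card V = p ^ n) :
    ∃ (Z : Subgroup A) (_ : Z.Normal) (K : Type v) (_ : Field K) (_ : Finite K) (_ : Module K V)
      (ι : Z →* K) (a : ℕ),
      (∀ x ∈ Z, ∀ y ∈ Z, Commute x y) ∧ MaxAb Z ∧ Function.Injective ι ∧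
      (∀ (z : Z) (x : V), ι z • x = (z : A) • x) ∧
      (∀ g ∈ Subgroup.centralizer (Z : Set A), ∀ (k : K) (x : V), g • k • x = k • g • x) ∧
      Nat.card K = p ^ a ∧ (Subgroup.centralizer (Z : Set A)).index ≤ a ∧
      n = a * Module.finrank K V := by
  classical
  let P : Subgroup A → Prop := fun N => N.Normal ∧ ∀ x ∈ N, ∀ y ∈ N, Commute x y
  obtain ⟨Z, -, hZmax⟩ := (Set.toFinite {N | P N}).exists_le_maximal (a := ⊥)
    (show P ⊥ from ⟨inferInstance, fun x hx y _ => by rw [Subgroup.mem_bot.1 hx]; exact Commute.one_left y⟩)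
  obtain ⟨hZn, hZc⟩ := hZmax.prop
  haveI := hZn
  have hmax : MaxAb Z := fun N hN hNc hle => hZmax.2 (show P N from ⟨hN, hNc⟩) hle
  let τ := DistribMulAction.toAddMonoidEnd A V
  let R := imgRing V Z
  obtain ⟨v0, hv0⟩ := exists_ne (0 : V)
  haveI : Finite (AddMonoid.End V) := Finite.of_injective (fun f : AddMonoid.End V => (f : V → V))
    DFunLike.coe_injective
  haveI : Nontrivial R := ⟨⟨0, 1, fun h => hv0
    ((DFunLike.congr_fun (congrArg Subtype.val h) v0 : (0 : V) = v0).symm)⟩⟩
  letI : CommRing R :=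
    { (inferInstance : Ring R) with
      mul_comm := fun a b =>
        Subtype.ext (imgRing_comm hZc (a : AddMonoid.End V) a.2 (b : AddMonoid.End V) b.2 :) }
  haveI : NoZeroDivisors R := ⟨fun {a b} hab => by
    by_cases hb : b = 0
    · exact Or.inr hb
    left
    obtain ⟨x, hx⟩ : ∃ x, (b : AddMonoid.End V) x ≠ 0 := by
      by_contra h
      push Not at h
      exact hb (Subtype.ext (DFunLike.ext _ _ h))
    exact Subtype.ext (hfield Z hZn hZc a a.2 _ hx (DFunLike.congr_fun (congrArg Subtype.val hab) x))⟩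
  haveI : IsDomain R := NoZeroDivisors.to_isDomain R
  letI : Fintype R := Fintype.ofFinite R
  letI : Field R := Fintype.fieldOfDomain R
  let ι : Z →* R :=
    { toFun := fun z => ⟨τ z, mem_imgRing z.2⟩
      map_one' := Subtype.ext (map_one τ)
      map_mul' := fun a b => Subtype.ext (map_mul τ (a : A) b) }
  have hιsmul : ∀ (z : Z) (x : V), ι z • x = (z : A) • x := fun z x => rfl
  have hι : Function.Injective ι := fun a b h => by
    have h1 : ∀ x : V, (a : A) • x = (b : A) • x := fun x => by rw [← hιsmul, ← hιsmul, h]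
    exact Subtype.ext (inv_mul_eq_one.1 (hf ((b : A)⁻¹ * a) fun x => by
      rw [mul_smul, h1, inv_smul_smul])).symm
  obtain ⟨C, hCdef⟩ : ∃ C, C = Subgroup.centralizer (Z : Set A) := ⟨_, rfl⟩
  let σ : A →* (R ≃+* R) :=
    { toFun := fun a =>
        { toFun := fun k => ⟨τ a * k * τ a⁻¹, imgRing_conj hZn a k.2⟩
          invFun := fun k => ⟨τ a⁻¹ * k * τ a, by
            have h := imgRing_conj hZn a⁻¹ k.2
            rwa [inv_inv] at h⟩
          left_inv := fun k => Subtype.ext (DFunLike.ext _ _ fun x =>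
            show a⁻¹ • a • (k : AddMonoid.End V) (a⁻¹ • a • x) = (k : AddMonoid.End V) x by
              rw [inv_smul_smul, inv_smul_smul])
          right_inv := fun k => Subtype.ext (DFunLike.ext _ _ fun x =>
            show a • a⁻¹ • (k : AddMonoid.End V) (a • a⁻¹ • x) = (k : AddMonoid.End V) x by
              rw [smul_inv_smul, smul_inv_smul])
          map_mul' := fun k k' => Subtype.ext (DFunLike.ext _ _ fun x =>
            show a • (k : AddMonoid.End V) ((k' : AddMonoid.End V) (a⁻¹ • x)) =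
                a • (k : AddMonoid.End V) (a⁻¹ • a • (k' : AddMonoid.End V) (a⁻¹ • x)) by
              rw [inv_smul_smul])
          map_add' := fun k k' => Subtype.ext (DFunLike.ext _ _ fun x =>
            show a • ((k : AddMonoid.End V) (a⁻¹ • x) + (k' : AddMonoid.End V) (a⁻¹ • x)) =
                a • (k : AddMonoid.End V) (a⁻¹ • x) + a • (k' : AddMonoid.End V) (a⁻¹ • x) from
              smul_add a _ _) }
      map_one' := RingEquiv.ext fun k => Subtype.ext (DFunLike.ext _ _ fun x =>
        show (1 : A) • (k : AddMonoid.End V) ((1 : A)⁻¹ • x) = (k : AddMonoid.End V) x by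
          rw [inv_one, one_smul, one_smul])
      map_mul' := fun a b => RingEquiv.ext fun k => Subtype.ext (DFunLike.ext _ _ fun x =>
        show (a * b) • (k : AddMonoid.End V) ((a * b)⁻¹ • x) =
            a • b • (k : AddMonoid.End V) (b⁻¹ • a⁻¹ • x) by
          rw [mul_inv_rev, mul_smul, mul_smul]) }
  have hker : σ.ker ≤ C := fun a ha => hCdef ▸ Subgroup.mem_centralizer_iff.2 fun z hz => by
    have h1 : σ a (ι ⟨z, hz⟩) = ι ⟨z, hz⟩ := by rw [MonoidHom.mem_ker.1 ha]; rfl
    have h2 : ι ⟨a * z * a⁻¹, hZn.conj_mem z hz a⟩ = ι ⟨z, hz⟩ := by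
      rw [← h1]
      exact Subtype.ext (by
        show τ (a * z * a⁻¹) = τ a * τ z * τ a⁻¹
        rw [map_mul, map_mul])
    have h3 : a * z * a⁻¹ = z := congrArg Subtype.val (hι h2)
    exact (mul_inv_eq_iff_eq_mul.1 h3).symm
  have hk : C.index ≤ Nat.card (R ≃+* R) := by
    haveI : Finite (R ≃+* R) := Finite.of_injective (fun e : R ≃+* R => (e : R → R)) DFunLike.coe_injective
    refine le_trans (Nat.le_of_dvd (Nat.pos_of_ne_zero Subgroup.index_ne_zero_of_finite)
      (Subgroup.index_dvd_of_le hker)) ?_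
    rw [Subgroup.index_ker]
    exact Finite.card_subtype_le _
  obtain ⟨q, f, hq, hqf, hautle⟩ := ringAut_card_le R
  haveI : FiniteDimensional R V := inferInstance
  have hqd : Nat.card V = (q ^ f) ^ Module.finrank R V := by
    rw [← hqf]; exact Module.natCard_eq_pow_finrank
  have hVne : 1 < Nat.card V := Finite.one_lt_card
  have hp := (Fact.out : p.Prime)
  have hqp : q = p := by
    have h1 : q ∣ p ^ n := by
      rw [← hV, hqd, ← pow_mul]
      refine dvd_pow_self q fun h => ?_
      rw [hqd, ← pow_mul, h, pow_zero] at hVne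
      omega
    exact (Nat.prime_dvd_prime_iff_eq hq hp).1 (hq.dvd_of_dvd_pow h1)
  subst hqp
  refine ⟨Z, hZn, R, inferInstance, inferInstance, inferInstance, ι, f, hZc, hmax, hι, hιsmul,
    fun g hg k x => ?_, hqf, hCdef ▸ hk.trans hautle, ?_⟩
  · have h1 : imgRing V Z ≤ Subring.centralizer {τ g} := by
      rw [imgRing, Subring.closure_le]
      rintro _ ⟨z, hz, rfl⟩
      refine Subring.mem_centralizer_iff.2 fun t ht => ?_
      rw [Set.mem_singleton_iff.1 ht, ← map_mul, ← map_mul,
        ← Subgroup.mem_centralizer_iff.1 hg z hz]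
    exact DFunLike.congr_fun (Subring.mem_centralizer_iff.1 (h1 k.2) (τ g) rfl) x
  · rw [hV, ← pow_mul] at hqd
    exact Nat.pow_right_injective hp.two_le hqd

end field

section layer

variable {A V : Type v} [Group A] [Finite A] [AddCommGroup V] [Finite V] [DistribMulAction A V]
  [Nontrivial V] {K : Type v} [Field K] [Finite K] [Module K V] {Z E : Subgroup A} [Z.Normal]
  (ι : Z →* K)

/-- An element of the centraliser as a linear map. -/
def linEnd (hlin : ∀ g ∈ Subgroup.centralizer (Z : Set A), ∀ (k : K) (x : V), g • k • x = k • g • x)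
    (g : Subgroup.centralizer (Z : Set A)) : Module.End K V where
  toFun x := (g : A) • x
  map_add' x y := smul_add (g : A) x y
  map_smul' k x := hlin g g.2 k x

/-- The scalars of the subgroup are units. -/
theorem card_dvd_units (hι : Function.Injective ι) (hιsmul : ∀ (z : Z) (x : V), ι z • x = (z : A) • x) :
    Nat.card Z ∣ Nat.card K - 1 := by
  obtain ⟨v0, hv0⟩ := exists_ne (0 : V)
  have hι0 : ∀ z, ι z ≠ 0 := fun z h => by
    have h1 := hιsmul z v0
    rw [h, zero_smul] at h1
    exact hv0 ((smul_eq_zero_iff_eq (z : A)).1 h1.symm)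
  let j : Z →* Kˣ :=
    { toFun := fun z => Units.mk0 (ι z) (hι0 z)
      map_one' := Units.ext (map_one ι)
      map_mul' := fun a b => Units.ext (map_mul ι a b) }
  have := Subgroup.card_dvd_of_injective j fun a b h => hι (congrArg Units.val h)
  rwa [Nat.card_units] at this

/-- The size of the layer. -/
theorem exists_layer_size (hι : Function.Injective ι)
    (hιsmul : ∀ (z : Z) (x : V), ι z • x = (z : A) • x)
    (hlin : ∀ g ∈ Subgroup.centralizer (Z : Set A), ∀ (k : K) (x : V), g • k • x = k • g • x)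
    (hx : Extra Z E) (hEZ : ¬E ≤ Z) :
    ∃ s, Z.relIndex E = s * s ∧ 2 ≤ s ∧ s ≤ Module.finrank K V ∧
      ∀ l, l.Prime → l ∣ s → l ∣ Nat.card Z := by
  classical
  haveI := hx.normal
  obtain ⟨s, hs⟩ := hx.exists_sq ι hι
  have hs0 : s ≠ 0 := fun h => by
    have h1 : Z.relIndex E ≠ 0 := Subgroup.index_ne_zero_of_finite
    rw [hs, h] at h1; exact h1 rfl
  have hs1 : s ≠ 1 := fun h => hEZ (Subgroup.relIndex_eq_one.1 (by rw [hs, h]))
  refine ⟨s, hs, by omega, ?_, fun l hl hls => ?_⟩
  · obtain ⟨v0, hv0⟩ := exists_ne (0 : V)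
    let C : Subgroup A := Subgroup.centralizer (Z : Set A)
    have hEC : E ≤ C := hx.le_centralizer
    let L : C → Module.End K V := linEnd hlin
    let t : E ⧸ Z.subgroupOf E → C := fun i => ⟨(i.out : E), hEC (i.out).2⟩
    let χ : E ⧸ Z.subgroupOf E → E →* K := fun i =>
      chi ι E hx.le_centralizer (t i : A) fun m hm => hx.inZ _ (i.out).2 m hm
    have hχ : Function.Injective χ := by
      intro i j hij
      rw [← QuotientGroup.out_eq' i, ← QuotientGroup.out_eq' j]
      refine QuotientGroup.eq.2 (hx.center_le _ (E.mul_mem (E.inv_mem i.out.2) j.out.2) fun m hm => ?_)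
      have h1 := DFunLike.congr_fun hij ⟨m, hm⟩
      rw [Cfsg.Agent.Solv.OddPair.chi_apply, Cfsg.Agent.Solv.OddPair.chi_apply] at h1
      have h2 : (t i : A) * m * (t i : A)⁻¹ = (t j : A) * m * (t j : A)⁻¹ :=
        mul_right_cancel (congrArg Subtype.val (hι h1))
      show (t i : A)⁻¹ * (t j : A) * m = m * ((t i : A)⁻¹ * (t j : A))
      calc (t i : A)⁻¹ * (t j : A) * m
          = (t i : A)⁻¹ * ((t j : A) * m * (t j : A)⁻¹) * (t j : A) := by group
        _ = (t i : A)⁻¹ * ((t i : A) * m * (t i : A)⁻¹) * (t j : A) := by rw [h2]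
        _ = m * ((t i : A)⁻¹ * (t j : A)) := by group
    let Lc : E → Module.End K V →ₗ[K] Module.End K V := fun h =>
      { toFun := fun T => L ⟨(h : A)⁻¹, C.inv_mem (hEC h.2)⟩ * T * L ⟨(h : A), hEC h.2⟩
        map_add' := fun S T => by rw [mul_add, add_mul]
        map_smul' := fun k T => by rw [RingHom.id_apply, mul_smul_comm, smul_mul_assoc] }
    haveI := Fintype.ofFinite (E ⧸ Z.subgroupOf E)
    have hLI := eigvec_indep χ hχ Lc (fun i => L (t i))
      (fun i h => hv0 ((smul_eq_zero_iff_eq (t i : A)).1 (LinearMap.congr_fun h v0)))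
      (fun h i => by
        refine LinearMap.ext fun x => ?_
        show (h : A)⁻¹ • (t i : A) • (h : A) • x =
          ι ⟨(t i : A) * h * (t i : A)⁻¹ * (h : A)⁻¹, _⟩ • (t i : A) • x
        rw [hιsmul, ← mul_smul, ← mul_smul, ← mul_smul]
        congr 1
        obtain ⟨w, hw⟩ : ∃ w, w = (t i : A) * h * (t i : A)⁻¹ * (h : A)⁻¹ := ⟨_, rfl⟩
        have hwZ : w ∈ Z := hw ▸ hx.inZ _ (i.out).2 h h.2
        have h1 := Subgroup.mem_centralizer_iff.1 (hx.le_centralizer (E.inv_mem h.2)) w hwZ
        show (h : A)⁻¹ * (t i : A) * h = (t i : A) * h * (t i : A)⁻¹ * (h : A)⁻¹ * (t i : A)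
        rw [← hw]
        calc (h : A)⁻¹ * (t i : A) * h = (h : A)⁻¹ * w * h * (t i : A) := by rw [hw]; group
          _ = w * (t i : A) := by rw [← h1, inv_mul_cancel_right])
    have h1 := hLI.fintype_card_le_finrank
    rw [Module.finrank_linearMap, ← Nat.card_eq_fintype_card, ← Subgroup.index_eq_card,
      ← Subgroup.relIndex, hs] at h1
    exact Nat.mul_self_le_mul_self_iff.1 h1
  · haveI := Fact.mk hl
    have hcard : l ∣ Nat.card (E ⧸ Z.subgroupOf E) := by
      rw [← Subgroup.index_eq_card]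
      show l ∣ Z.relIndex E
      rw [hs]
      exact hls.mul_right s
    obtain ⟨x', hx'⟩ := exists_prime_orderOf_dvd_card' l hcard
    obtain ⟨x, rfl⟩ := QuotientGroup.mk_surjective x'
    have hxZ : (x : A) ∉ Z := fun h => by
      rw [(QuotientGroup.eq_one_iff x).2 (show x ∈ Z.subgroupOf E from h), orderOf_one] at hx'
      exact hl.ne_one hx'.symm
    have hxl : (x : A) ^ l ∈ Z := by
      have h1 : ((x : E) : E ⧸ Z.subgroupOf E) ^ l = 1 := by rw [← hx', pow_orderOf_eq_one]
      rw [← QuotientGroup.mk_pow, QuotientGroup.eq_one_iff] at h1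
      exact h1
    obtain ⟨y, hy, hxy⟩ : ∃ y ∈ E, ¬Commute (x : A) y := by
      by_contra h
      push Not at h
      exact hxZ (hx.center_le x x.2 h)
    obtain ⟨w, hwd⟩ : ∃ w : Z, (w : A) = y * x * y⁻¹ * (x : A)⁻¹ :=
      ⟨⟨_, hx.inZ y hy _ x.2⟩, rfl⟩
    have hw1 : w ≠ 1 := fun h => hxy (by
      have h1 : y * x * y⁻¹ * (x : A)⁻¹ = 1 := by rw [← hwd, h]; rfl
      rw [mul_inv_eq_one, mul_inv_eq_iff_eq_mul] at h1
      exact h1.symm)
    have hc : ∀ g ∈ E, Commute (w : A) g := fun g hg =>
      Subgroup.mem_centralizer_iff.1 (hx.le_centralizer hg) w w.2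
    have hconj : y * x * y⁻¹ = (w : A) * x := by rw [hwd, inv_mul_cancel_right]
    have hwl : w ^ l = 1 := Subtype.ext (by
      have h1 : (y * x * y⁻¹) ^ l = (x : A) ^ l := by
        rw [conj_pow, ← Subgroup.mem_centralizer_iff.1 (hx.le_centralizer hy) _ hxl,
          mul_inv_cancel_right]
      rw [hconj, (hc x x.2).mul_pow] at h1
      show (w : A) ^ l = 1
      exact mul_eq_right.1 h1)
    rw [← orderOf_eq_prime hwl hw1]
    exact orderOf_dvd_natCard w

end layer

end Cfsg.Agent.Solv.C49
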